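import Cfsg.Agent.H933.HT.Tools

/-!
# S3540: coverage by elements of prime order, groups of order 27
-/

set_option autoImplicit false
set_option linter.unusedSectionVars false

universe u w

namespace Cfsg.Agent.H933.HT

open Cfsg.Agent.H828.HT Cfsg.Agent.H337.HT

/-- non-abelian groups of order 27 -/
theorem p27 {P : Type*} [Group P] (hc : Nat.card P = 27) (hna : ∃ a b : P, a * b ≠ b * a) :
    Nat.card (Subgroup.center P) = 3 ∧ ∀ x y : P, x * y * x⁻¹ * y⁻¹ ∈ Subgroup.center P := by
  have h3 : Fact (Nat.Prime 3) := ⟨Nat.prime_three⟩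
  have hfin : Finite P := Nat.finite_of_card_ne_zero (by rw [hc]; norm_num)
  have hP : IsPGroup 3 P := IsPGroup.of_card (n := 3) (by rw [hc]; norm_num)
  have hnt : Nontrivial P := Finite.one_lt_card_iff_nontrivial.1 (by rw [hc]; norm_num)
  have hZ : 1 < Nat.card (Subgroup.center P) := Finite.one_lt_card_iff_nontrivial.2 hP.center_nontrivial
  have hd : Nat.card (Subgroup.center P) ∣ 3 ^ 3 := by
    have := Subgroup.card_subgroup_dvd_card (Subgroup.center P)
    rw [hc] at this
    exact this
  obtain ⟨k, hk, hk2⟩ := (Nat.dvd_prime_pow Nat.prime_three).1 hd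
  have hmul := Subgroup.card_eq_card_quotient_mul_card_subgroup (Subgroup.center P)
  have hnc : ¬ ∀ a b : P, a * b = b * a := by
    obtain ⟨a, b, hab⟩ := hna
    exact fun h => hab (h a b)
  have hk1 : k = 1 := by
    interval_cases k
    · rw [pow_zero] at hk2; omega
    · rfl
    · exfalso
      rw [hc, hk2] at hmul
      have h4 : Nat.card (P ⧸ Subgroup.center P) = 3 := by omega
      have h5 : IsCyclic (P ⧸ Subgroup.center P) := isCyclic_of_prime_card h4
      apply hnc
      exact (commutative_of_cyclic_center_quotient (QuotientGroup.mk' (Subgroup.center P))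
        (by rw [QuotientGroup.ker_mk']))
    · exfalso
      have h4 : Subgroup.center P = ⊤ := Subgroup.eq_top_of_card_eq _ (by rw [hk2, hc]; norm_num)
      apply hnc
      intro a b
      have : b ∈ Subgroup.center P := by rw [h4]; trivial
      exact Subgroup.mem_center_iff.1 this a
  subst hk1
  rw [pow_one] at hk2
  refine ⟨hk2, fun x y => ?_⟩
  have h4 : Nat.card (P ⧸ Subgroup.center P) = 3 ^ 2 := by rw [hc, hk2] at hmul; omega
  have h5 := IsPGroup.commutative_of_card_eq_prime_sq h4
  rw [← QuotientGroup.eq_one_iff]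
  have h6 : ((x * y * x⁻¹ * y⁻¹ : P) : P ⧸ Subgroup.center P) = x * y * (x : P ⧸ Subgroup.center P)⁻¹ * (y : P ⧸ Subgroup.center P)⁻¹ := rfl
  rw [h6, h5 x y]
  group

/-- two-sided counting -/
theorem card_mul_le {X Y : Type*} [Finite X] [Finite Y] (R : Y → X → Prop) {m n : ℕ}
    (hm : ∀ y, m ≤ Nat.card {x // R y x}) (hn : ∀ x, Nat.card {y // R y x} ≤ n) :
    Nat.card Y * m ≤ Nat.card X * n := by
  classical
  have := Fintype.ofFinite X
  have := Fintype.ofFinite Y
  have h := Finset.card_mul_le_card_mul (s := (Finset.univ : Finset Y)) (t := (Finset.univ : Finset X)) R (m := m)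
    (n := n) (fun y _ => by
      have := hm y
      rw [Nat.card_eq_fintype_card, Fintype.card_subtype] at this
      exact this) (fun x _ => by
      have := hn x
      rw [Nat.card_eq_fintype_card, Fintype.card_subtype] at this
      exact this)
  rw [Nat.card_eq_fintype_card, Nat.card_eq_fintype_card]
  exact h

theorem card_ne {X : Type*} [Finite X] (a : X) : Nat.card {x : X // x ≠ a} + 1 = Nat.card X := by
  classical
  have h1 : Nat.card {x : X // x = a} = 1 := by
    rw [Nat.card_eq_one_iff_unique]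
    exact ⟨⟨fun s t => Subtype.ext (s.2.trans t.2.symm)⟩, ⟨⟨a, rfl⟩⟩⟩
  have h2 : Nat.card X = Nat.card {u : X // u = a} + Nat.card {u : X // u ≠ a} := by
    rw [← Nat.card_sum]
    exact Nat.card_congr (Equiv.sumCompl (fun u : X => u = a)).symm
  omega

variable {p : ℕ} [Fact p.Prime] {K : Type w} [Field K] {V : Type u} [AddCommGroup V] [Module (ZMod p) V] [Finite V]
    [Module K V] {G L : Subgroup (V ≃ₗ[ZMod p] V)} {h : ℕ}

/-- **(COVL)** -/
theorem exists_fix (H : QS p K V G L h) {r a : ℕ} (hr : r.Prime) (hrL : r ^ a ∣ Nat.card L)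
    (hna : ¬ r ^ a ∣ Nat.card V - 1) {v : V} (hv : v ≠ 0) :
    ∃ x : L, orderOf x = r ∧ (x : V ≃ₗ[ZMod p] V) v = v := by
  classical
  have := Fact.mk hr
  obtain ⟨m, hm, -⟩ := exists_m H.half H.exists_ne
  have h0 : 0 < h := by have := H.two_le; omega
  have h1 := orbit_normal_dvd_m H.half h0 hm L H.le H.nrm hv
  have h2 := h1.trans (dvd_card_sub_one H.half h0 hm)
  have h3 := MulAction.card_orbit_mul_card_stabilizer_eq_card_group L v
  rw [← Nat.card_eq_fintype_card, ← Nat.card_eq_fintype_card, ← Nat.card_eq_fintype_card] at h3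
  have h4 : r ∣ Nat.card (MulAction.stabilizer L v) := by
    by_contra hcon
    apply hna
    refine dvd_trans ?_ h2
    rw [← h3] at hrL
    exact Nat.Coprime.dvd_of_dvd_mul_right (Nat.Coprime.pow_left a ((Nat.Prime.coprime_iff_not_dvd hr).2 hcon)) hrL
  obtain ⟨x, hx⟩ := exists_prime_orderOf_dvd_card' r h4
  exact ⟨x.1, by rw [← hx, Subgroup.orderOf_coe], x.2⟩

/-- coverage, elements version: `X` the set of elements of order `r` of `L` -/
theorem cover_card {r N d : ℕ} (hr : r.Prime)
    (hfix : ∀ v : V, v ≠ 0 → ∃ x : L, orderOf x = r ∧ (x : V ≃ₗ[ZMod p] V) v = v)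
    (hN : Nat.card {x : L // orderOf x = r} ≤ N)
    (hd : ∀ x : L, orderOf x = r → Nat.card (fx (x : V ≃ₗ[ZMod p] V)) ≤ d) :
    (Nat.card V - 1) * (r - 1) ≤ N * (d - 1) := by
  classical
  have hVf : Finite {v : V // v ≠ 0} := inferInstance
  have hXf : Finite {x : L // orderOf x = r} := inferInstance
  have h1 := card_mul_le (Y := {v : V // v ≠ 0}) (X := {x : L // orderOf x = r})
    (fun v x => (x.1 : V ≃ₗ[ZMod p] V) v.1 = v.1) (m := r - 1) (n := d - 1) (by
      intro v
      obtain ⟨x, hx, hxv⟩ := hfix v.1 v.2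
      -- the non-trivial powers of `x`
      have h2 : Nat.card {y : Subgroup.zpowers x // y ≠ 1} = r - 1 := by
        have := card_ne (X := Subgroup.zpowers x) 1
        rw [Nat.card_zpowers, hx] at this
        omega
      rw [← h2]
      have hord : ∀ y : Subgroup.zpowers x, y ≠ 1 → orderOf (y : L) = r := by
        intro y hy
        have h3 : orderOf (y : L) ∣ r := by
          rw [← hx, Subgroup.orderOf_coe, ← Nat.card_zpowers x]
          exact orderOf_dvd_natCard y
        rcases (Nat.dvd_prime hr).1 h3 with h4 | h4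
        · exact absurd (Subtype.ext (orderOf_eq_one_iff.1 h4)) hy
        · exact h4
      have hfixy : ∀ y : Subgroup.zpowers x, ((y : L) : V ≃ₗ[ZMod p] V) v.1 = v.1 := by
        rintro ⟨y, hy⟩
        have h5 : Subgroup.zpowers x ≤ MulAction.stabilizer L v.1 := by
          rw [Subgroup.zpowers_le]
          exact hxv
        exact h5 hy
      refine Nat.card_le_card_of_injective (fun y : {y : Subgroup.zpowers x // y ≠ 1} =>
        (⟨⟨(y.1 : L), hord y.1 y.2⟩, hfixy y.1⟩ :
          {x : {x : L // orderOf x = r} // (x.1 : V ≃ₗ[ZMod p] V) v.1 = v.1})) ?_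
      intro y z hyz
      have h6 : (y.1 : L) = z.1 := congrArg (fun a => (a.1.1 : L)) hyz
      exact Subtype.ext (Subtype.ext h6))
    (by
      intro x
      have h2 := hd x.1 x.2
      have h3 := card_ne (X := fx (x.1 : V ≃ₗ[ZMod p] V)) 0
      have h4 : Nat.card {v : {v : V // v ≠ 0} // (x.1 : V ≃ₗ[ZMod p] V) v.1 = v.1} ≤
          Nat.card {v : fx (x.1 : V ≃ₗ[ZMod p] V) // v ≠ 0} := by
        refine Nat.card_le_card_of_injective (fun v => ⟨⟨v.1.1, mem_fx.2 v.2⟩, fun hv => v.1.2 (congrArg Subtype.val hv)⟩) ?_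
        intro a b hab
        have h6 : a.1.1 = b.1.1 := congrArg (fun a => (a.1.1 : V)) hab
        exact Subtype.ext (Subtype.ext h6)
      omega)
  have h5 := card_ne (X := V) 0
  have h6 : Nat.card V - 1 = Nat.card {v : V // v ≠ 0} := by omega
  rw [h6]
  exact h1.trans (Nat.mul_le_mul_right _ hN)

end Cfsg.Agent.H933.HT
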