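import Cfsg.Agent.H337.HT.Num

/-!
# S3540, `n = 6`: numerical sieves for `U₃(3)` and `U₄(3)`
-/

set_option autoImplicit false

namespace Cfsg.Agent.H933.HT

open Cfsg.Agent.H337.HT

/-- the divisor version of `Cand.gcd_le` -/
theorem gcd_le_of {R o A n q : ℕ} (hR : 0 < R) (hRA : R ∣ A) (hc : Cand R o A n q) (hq : 2 ≤ q) (hA : 0 < A) :
    q ^ n ≤ 2 * (Nat.gcd ((q - 1) * (A / R)) (q ^ n - 1)) ^ 2 := by
  obtain ⟨m, h, hRh, h2, hm, -, hd, hle⟩ := hc
  refine (Cand.le_two h2 hle).trans ?_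
  obtain ⟨k, rfl⟩ := hRh
  obtain ⟨a, rfl⟩ := hRA
  have h3 : m ∣ (q - 1) * a := by
    have h4 : m * (R * k) ∣ (q - 1) * (R * a) := hd
    have h5 : R * (m * k) ∣ R * ((q - 1) * a) := by
      have e1 : R * (m * k) = m * (R * k) := by ring
      have e2 : R * ((q - 1) * a) = (q - 1) * (R * a) := by ring
      rw [e1, e2]; exact h4
    exact (Dvd.intro k rfl).trans (Nat.dvd_of_mul_dvd_mul_left hR h5)
  have ha : 0 < a := Nat.pos_of_mul_pos_left hA
  rw [Nat.mul_div_cancel_left a hR]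
  have h1 : m ∣ Nat.gcd ((q - 1) * a) (q ^ n - 1) := Nat.dvd_gcd h3 hm
  have h6 : 0 < Nat.gcd ((q - 1) * a) (q ^ n - 1) :=
    Nat.gcd_pos_of_pos_left _ (Nat.mul_pos (by omega) ha)
  exact Nat.mul_le_mul_left 2 (Nat.pow_le_pow_left (Nat.le_of_dvd h6 h1) 2)

/-- the test at `q` -/
def tst (A n q : ℕ) : Bool := Nat.blt (2 * (Nat.gcd ((q - 1) * A) (q ^ n - 1)) ^ 2) (q ^ n)

/-- test of all `q = a + b j`, `j < k`, outside `l` -/
def loopL (A n b : ℕ) (l : List ℕ) : ℕ → ℕ → Bool
  | 0, _ => true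
  | k + 1, q => bif tst A n q || l.contains q then loopL A n b l k (q + b) else false

theorem loopL_spec {A n b : ℕ} {l : List ℕ} : ∀ (k a : ℕ), loopL A n b l k a = true → ∀ j < k,
    tst A n (a + b * j) = true ∨ (a + b * j) ∈ l
  | 0, _, _, j, hj => absurd hj (Nat.not_lt_zero _)
  | k + 1, a, h, j, hj => by
    rw [loopL] at h
    cases h1 : (tst A n a || l.contains a) with
    | false => rw [h1, cond_false] at h; exact Bool.noConfusion h
    | true =>
      rw [h1, cond_true] at h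
      rcases j with _ | j
      · rw [Nat.mul_zero, Nat.add_zero]
        rw [Bool.or_eq_true, List.contains_iff_mem] at h1
        exact h1
      · have := loopL_spec k (a + b) h j (by omega)
        have e : a + b * (j + 1) = a + b + b * j := by ring
        rw [e]; exact this

theorem not_tst {A n q : ℕ} (h : q ^ n ≤ 2 * (Nat.gcd ((q - 1) * A) (q ^ n - 1)) ^ 2) : tst A n q ≠ true := by
  intro h1
  rw [tst, Nat.blt_eq] at h1
  omega

/-- `U₃(3)` in degree 6 -/
theorem u33_list {q : ℕ} (hq : 2 ≤ q) (hco : q.Coprime 6048) (hc : Cand 1 6048 12096 6 q) :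
    q = 5 ∨ q = 11 ∨ q = 17 ∨ q = 23 := by
  have hlt : q < 93 := by
    by_contra hcon
    have h1 := hc.pow_lt (by norm_num) hq (by norm_num)
    have h2 : 93 ^ 4 ≤ q ^ 4 := Nat.pow_le_pow_left (by omega) 4
    norm_num at h1 h2
    omega
  have h6 := hc.gcd_le hq (by norm_num)
  have h1 : loopL 12096 6 2 [3, 5, 7, 11, 17, 23] 45 3 = true := by decide
  have hodd : q % 2 = 1 := by
    by_contra hcon
    have h2 : 2 ∣ q := by omega
    have h3 : 2 ∣ Nat.gcd q 6048 := Nat.dvd_gcd h2 (by norm_num)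
    rw [hco] at h3
    omega
  have h2 := loopL_spec 45 3 h1 ((q - 3) / 2) (by omega)
  have h3 : 3 + 2 * ((q - 3) / 2) = q := by omega
  rw [h3] at h2
  rcases h2 with h2 | h2
  · exact absurd h2 (not_tst h6)
  · simp only [List.mem_cons, List.not_mem_nil, or_false] at h2
    rcases h2 with rfl | rfl | rfl | rfl | rfl | rfl
    · revert hco; decide
    · exact Or.inl rfl
    · revert hco; decide
    · exact Or.inr (Or.inl rfl)
    · exact Or.inr (Or.inr (Or.inl rfl))
    · exact Or.inr (Or.inr (Or.inr rfl))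

/-- `U₃(3)` in degree 6, `3 ∣ h` -/
theorem u33_list3 {q : ℕ} (hq : 2 ≤ q) (hco : q.Coprime 6048) (hc : Cand 3 6048 12096 6 q) :
    q = 5 ∨ q = 11 ∨ q = 23 := by
  rcases u33_list hq hco hc.mono with rfl | rfl | rfl | rfl
  · exact Or.inl rfl
  · exact Or.inr (Or.inl rfl)
  · exfalso
    have h1 := gcd_le_of (by norm_num) (by norm_num) hc hq (by norm_num)
    revert h1
    norm_num
  · exact Or.inr (Or.inr rfl)

/-- `U₄(3)` in degree 6, `3 ∣ q - 1` -/
theorem u43_list {q : ℕ} (hq : 2 ≤ q) (hco : q.Coprime 3265920) (h3 : 3 ∣ q - 1)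
    (hc : Cand 1 3265920 26127360 6 q) : q = 19 := by
  have hlt : q < 4302 := by
    by_contra hcon
    have h1 := hc.pow_lt (by norm_num) hq (by norm_num)
    have h2 : 4302 ^ 4 ≤ q ^ 4 := Nat.pow_le_pow_left (by omega) 4
    norm_num at h1 h2
    omega
  have h6 := hc.gcd_le hq (by norm_num)
  have h1 : loopL 26127360 6 6 [7, 19, 25] 717 7 = true := by decide +kernel
  have hodd : q % 2 = 1 := by
    by_contra hcon
    have h2 : 2 ∣ q := by omega
    have h3 : 2 ∣ Nat.gcd q 3265920 := Nat.dvd_gcd h2 (by norm_num)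
    rw [hco] at h3
    omega
  have h7 : 7 ≤ q := by omega
  have h2 := loopL_spec 717 7 h1 ((q - 7) / 6) (by omega)
  have h4 : 7 + 6 * ((q - 7) / 6) = q := by omega
  rw [h4] at h2
  rcases h2 with h2 | h2
  · exact absurd h2 (not_tst h6)
  · simp only [List.mem_cons, List.not_mem_nil, or_false] at h2
    rcases h2 with rfl | rfl | rfl
    · revert hco; decide
    · rfl
    · revert hco; decide

/-- `U₄(3)`, `q = 19`: `5` does not divide `h` -/
theorem u43_five' (hc : Cand 5 3265920 26127360 6 19) : False := by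
  have h1 := gcd_le_of (by norm_num) (by norm_num) hc (by norm_num) (by norm_num)
  revert h1
  norm_num

end Cfsg.Agent.H933.HT
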