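import Cfsg.Agent.H933.HT.Tools

/-!
# S3540: fixed spaces of the elements of order three of an extraspecial group of order 27 in dimension 6
-/

set_option autoImplicit false
set_option linter.unusedSectionVars false

universe u w

namespace Cfsg.Agent.H933.HT

open Cfsg.Agent.H828.HT Cfsg.Agent.H337.HT

variable {p : ℕ} [Fact p.Prime] {K : Type w} [Field K] {V : Type u} [AddCommGroup V] [Module (ZMod p) V] [Finite V]
    [Module K V]

section

variable {x g z : V ≃ₗ[ZMod p] V}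

/-- `ker (1 + z + z²)` -/
def ww (z : V ≃ₗ[ZMod p] V) : AddSubgroup V where
  carrier := {v | v + z v + z (z v) = 0}
  zero_mem' := by simp
  add_mem' {a b} ha hb := by
    simp only [Set.mem_setOf_eq, map_add] at *
    have : a + b + (z a + z b) + (z (z a) + z (z b)) = (a + z a + z (z a)) + (b + z b + z (z b)) := by abel
    rw [this, ha, hb, add_zero]
  neg_mem' {a} ha := by
    simp only [Set.mem_setOf_eq, map_neg] at *
    have : -a + -z a + -z (z a) = -(a + z a + z (z a)) := by abel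
    rw [this, ha, neg_zero]

theorem mem_ww {v : V} : v ∈ ww z ↔ v + z v + z (z v) = 0 := Iff.rfl

/-- `ker (1 + z + z²) ∩ C_V(x)` -/
def wx (x z : V ≃ₗ[ZMod p] V) : AddSubgroup V := ww z ⊓ (fx x).toAddSubgroup

theorem mem_wx {v : V} : v ∈ wx x z ↔ v + z v + z (z v) = 0 ∧ x v = v := by
  rw [wx, AddSubgroup.mem_inf, mem_ww, Submodule.mem_toAddSubgroup, mem_fx]

/-- the sum `v + y v + y² v` -/
def nn (y : V ≃ₗ[ZMod p] V) : V →+ V where
  toFun v := v + y v + y (y v)
  map_zero' := by simp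
  map_add' a b := by simp only [map_add]; abel

theorem nn_apply (y : V ≃ₗ[ZMod p] V) (v : V) : nn y v = v + y v + y (y v) := rfl

theorem pow_three_apply (hx : x ^ 3 = 1) (v : V) : x (x (x v)) = v := by
  have : (x ^ 3) v = v := by rw [hx]; rfl
  exact this

theorem nn_fixed (hx : x ^ 3 = 1) (v : V) : x (nn x v) = nn x v := by
  rw [nn_apply, map_add, map_add, pow_three_apply hx]
  abel

theorem nn_of_fixed {v : V} (hv : x v = v) : nn x v = (3 : ℕ) • v := by
  rw [nn_apply, hv, hv, succ_nsmul, two_nsmul]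

/-- the whole situation -/
structure Cfg (x g z : V ≃ₗ[ZMod p] V) : Prop where
  x3 : x ^ 3 = 1
  z3 : z ^ 3 = 1
  xz : x * z = z * x
  gz : g * z = z * g
  gx : g * x = x * z * g

namespace Cfg

variable (C : Cfg x g z)
include C

theorem cxz (v : V) : x (z v) = z (x v) := LinearEquiv.congr_fun C.xz v
theorem cgz (v : V) : g (z v) = z (g v) := LinearEquiv.congr_fun C.gz v
theorem cgx (v : V) : g (x v) = x (z (g v)) := LinearEquiv.congr_fun C.gx v
theorem tx (v : V) : x (x (x v)) = v := pow_three_apply C.x3 v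
theorem tz (v : V) : z (z (z v)) = v := pow_three_apply C.z3 v

theorem g_mem {v : V} (hv : v ∈ ww z) : g v ∈ ww z := by
  rw [mem_ww] at *
  rw [← C.cgz, ← C.cgz, ← map_add, ← map_add, hv, map_zero]

/-- `x (g b) = z² (g b)` for `b` fixed by `x` -/
theorem xg {b : V} (hb : x b = b) : x (g b) = z (z (g b)) := by
  have h1 := C.cgx b
  rw [hb] at h1
  -- `g b = x (z (g b))`
  have h2 : z (z (g b)) = z (z (x (z (g b)))) := congrArg (fun v => z (z v)) h1
  rw [h2, C.cxz, C.tz]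

theorem nn_g {b : V} (hb : b ∈ wx x z) : nn x (g b) = 0 := by
  rw [mem_wx] at hb
  have h1 := C.xg hb.2
  have h3 : g b ∈ ww z := C.g_mem hb.1
  rw [mem_ww] at h3
  rw [nn_apply, h1, C.cxz, C.cxz, h1, C.tz]
  rw [← h3]; abel

theorem nn_gg {b : V} (hb : b ∈ wx x z) : nn x (g (g b)) = 0 := by
  rw [mem_wx] at hb
  have h1 := C.xg hb.2
  have h3 : g (g b) ∈ ww z := C.g_mem (C.g_mem hb.1)
  rw [mem_ww] at h3
  -- `x (g g b) = z (g g b)`
  have h4 : x (g (g b)) = z (g (g b)) := by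
    have h5 := C.cgx (g b)
    rw [h1, C.cgz, C.cgz] at h5
    -- `z z (g g b) = x (z (g g b))`
    rw [C.cxz] at h5
    have h6 := z.injective h5
    exact h6.symm
  rw [nn_apply, h4, C.cxz, h4, h3]

theorem w_nz {v : V} (hv : v ∈ ww z) {k : ℕ} (hk : k = 3) (h3 : ∀ v : V, (3 : ℕ) • v = 0 → v = 0) (hz : z v = v) :
    v = 0 := by
  apply h3
  rw [mem_ww, hz, hz] at hv
  rw [succ_nsmul, two_nsmul]
  exact hv

theorem inj (h3 : ∀ v : V, (3 : ℕ) • v = 0 → v = 0) {a b c : V} (ha : a ∈ wx x z) (hb : b ∈ wx x z)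
    (hc : c ∈ wx x z) (h : a + g b + g (g c) = 0) : a = 0 ∧ b = 0 ∧ c = 0 := by
  have h1 := congrArg (nn x) h
  rw [map_add, map_add, C.nn_g hb, C.nn_gg hc, map_zero, add_zero, add_zero, nn_of_fixed (mem_wx.1 ha).2] at h1
  have ha0 := h3 a h1
  rw [ha0, zero_add, ← map_add] at h
  have h2 : b + g c = 0 := g.map_eq_zero_iff.1 h
  have h4 := congrArg (nn x) h2
  rw [map_add, C.nn_g hc, map_zero, add_zero, nn_of_fixed (mem_wx.1 hb).2] at h4
  have hb0 := h3 b h4
  rw [hb0, zero_add] at h2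
  exact ⟨ha0, hb0, g.map_eq_zero_iff.1 h2⟩

theorem x_mem {v : V} (hv : v ∈ ww z) : x v ∈ ww z := by
  rw [mem_ww] at *
  rw [← C.cxz, ← C.cxz, ← map_add, ← map_add, hv, map_zero]

theorem z_mem {v : V} (hv : v ∈ ww z) : z v ∈ ww z := by
  rw [mem_ww] at *
  rw [← map_add, ← map_add, hv, map_zero]

theorem nn_mem_of {y : V ≃ₗ[ZMod p] V} (hy : ∀ v, v ∈ ww z → y v ∈ ww z) {v : V} (hv : v ∈ ww z) : nn y v ∈ ww z := by
  rw [nn_apply]
  exact (ww z).add_mem ((ww z).add_mem hv (hy _ hv)) (hy _ (hy _ hv))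

/-- the sum of the three projections -/
theorem sum_nn {w : V} (hw : w ∈ ww z) : nn x w + nn (x * z) w + nn (x * z * z) w = (3 : ℕ) • w := by
  rw [mem_ww] at hw
  have e1 : (x * z) w = x (z w) := rfl
  have e2 : (x * z) ((x * z) w) = x (x (z (z w))) := by
    change x (z (x (z w))) = _
    rw [C.cxz (z w)]
  have e3 : (x * z * z) w = x (z (z w)) := rfl
  have e4 : (x * z * z) ((x * z * z) w) = x (x (z w)) := by
    change x (z (z (x (z (z w))))) = _
    rw [C.cxz (z w), C.cxz w]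
    have : z (z (z (z (x w)))) = z (x w) := C.tz _
    rw [this, C.cxz]
  rw [nn_apply, nn_apply, nn_apply, e2, e1, e4, e3]
  have e5 : x w + x (z w) + x (z (z w)) = 0 := by rw [← map_add, ← map_add, hw, map_zero]
  have e6 : x (x w) + x (x (z w)) + x (x (z (z w))) = 0 := by
    rw [← map_add, ← map_add, ← map_add, ← map_add, hw, map_zero, map_zero]
  have e7 : w + x w + x (x w) + (w + x (z w) + x (x (z (z w)))) + (w + x (z (z w)) + x (x (z w))) =
    (w + w + w) + (x w + x (z w) + x (z (z w))) + (x (x w) + x (x (z w)) + x (x (z (z w)))) := by abel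
  rw [e7, e5, e6, add_zero, add_zero, succ_nsmul, two_nsmul]

theorem y3 : (x * z) ^ 3 = 1 := by
  have : Commute x z := C.xz
  rw [this.mul_pow, C.x3, C.z3, one_mul]

theorem y3' : (x * z * z) ^ 3 = 1 := by
  have h1 : Commute x z := C.xz
  have : Commute (x * z) z := h1.mul_left (Commute.refl z)
  rw [this.mul_pow, C.y3, C.z3, one_mul]

theorem exists_b {u : V} (hu : u ∈ ww z) (hy : (x * z) u = u) : ∃ b ∈ wx x z, g b = u := by
  refine ⟨g⁻¹ u, ?_, ?_⟩
  · have e0 : g (g⁻¹ u) = u := by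
      change (g * g⁻¹) u = u
      rw [mul_inv_cancel]; rfl
    rw [mem_wx]
    constructor
    · apply g.injective
      rw [map_add, map_add, C.cgz, C.cgz, C.cgz, e0, map_zero]
      exact hu
    · apply g.injective
      rw [C.cgx, e0]
      exact hy
  · change (g * g⁻¹) u = u
    rw [mul_inv_cancel]; rfl

theorem exists_c {u : V} (hu : u ∈ ww z) (hy : (x * z * z) u = u) : ∃ c ∈ wx x z, g (g c) = u := by
  have e0 : g (g⁻¹ u) = u := by
    change (g * g⁻¹) u = u
    rw [mul_inv_cancel]; rfl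
  have h1 : g⁻¹ u ∈ ww z := by
    rw [mem_ww]
    apply g.injective
    rw [map_add, map_add, C.cgz, C.cgz, C.cgz, e0, map_zero]
    exact hu
  obtain ⟨c, hc, hc'⟩ := C.exists_b h1 (by
    apply g.injective
    change g (x (z (g⁻¹ u))) = _
    rw [C.cgx, C.cgz, e0]
    exact hy)
  exact ⟨c, hc, by rw [hc', e0]⟩

theorem surj {t : ℕ} (ht : ∀ v : V, t • (3 : ℕ) • v = v) {w : V} (hw : w ∈ ww z) :
    ∃ a ∈ wx x z, ∃ b ∈ wx x z, ∃ c ∈ wx x z, a + g b + g (g c) = w := by
  have h1 := C.sum_nn hw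
  have hy : ∀ v, v ∈ ww z → (x * z) v ∈ ww z := fun v hv => C.x_mem (C.z_mem hv)
  have hy' : ∀ v, v ∈ ww z → (x * z * z) v ∈ ww z := fun v hv => C.x_mem (C.z_mem (C.z_mem hv))
  obtain ⟨b, hb, hb'⟩ := C.exists_b (u := t • nn (x * z) w) ((ww z).nsmul_mem (C.nn_mem_of hy hw) t) (by
    rw [map_nsmul, nn_fixed C.y3])
  obtain ⟨c, hc, hc'⟩ := C.exists_c (u := t • nn (x * z * z) w) ((ww z).nsmul_mem (C.nn_mem_of hy' hw) t) (by
    rw [map_nsmul, nn_fixed C.y3'])
  refine ⟨t • nn x w, ?_, b, hb, c, hc, ?_⟩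
  · rw [mem_wx]
    refine ⟨?_, ?_⟩
    · exact (ww z).nsmul_mem (C.nn_mem_of (fun v hv => C.x_mem hv) hw) t
    · rw [map_nsmul, nn_fixed C.x3]
  · rw [hb', hc', ← nsmul_add, ← nsmul_add, h1, ht]

/-- `|ker (1 + z + z²)| = |C_W(x)|³` -/
theorem card_ww {t : ℕ} (ht : ∀ v : V, t • (3 : ℕ) • v = v) : Nat.card (ww z) = Nat.card (wx x z) ^ 3 := by
  have h3 : ∀ v : V, (3 : ℕ) • v = 0 → v = 0 := fun v hv => by rw [← ht v, hv, nsmul_zero]
  let φ : wx x z × wx x z × wx x z →+ ww z :=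
    { toFun := fun a => ⟨a.1 + g a.2.1 + g (g a.2.2), (ww z).add_mem ((ww z).add_mem (mem_wx.1 a.1.2).1
        (C.g_mem (mem_wx.1 a.2.1.2).1)) (C.g_mem (C.g_mem (mem_wx.1 a.2.2.2).1))⟩
      map_zero' := Subtype.ext (by simp)
      map_add' := fun a b => Subtype.ext (by
        simp only [Prod.fst_add, Prod.snd_add, AddSubgroup.coe_add, map_add]
        abel) }
  have hφ : Function.Bijective φ := by
    constructor
    · rw [injective_iff_map_eq_zero]
      rintro ⟨a, b, c⟩ h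
      have h1 := congrArg Subtype.val h
      obtain ⟨e1, e2, e3⟩ := C.inj h3 a.2 b.2 c.2 h1
      exact Prod.ext (Subtype.ext e1) (Prod.ext (Subtype.ext e2) (Subtype.ext e3))
    · rintro ⟨w, hw⟩
      obtain ⟨a, ha, b, hb, c, hc, h⟩ := C.surj ht hw
      exact ⟨(⟨a, ha⟩, ⟨b, hb⟩, ⟨c, hc⟩), Subtype.ext h⟩
  rw [← Nat.card_congr (Equiv.ofBijective φ hφ), Nat.card_prod, Nat.card_prod]
  ring

/-- **fixed spaces**: `|C_V(x)| = |K|²` and `C_V(z) = 0` if `dim_K V = 6` and `|K| ≡ 2 mod 3`. -/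
theorem main (hx : ∀ (c : K) (v : V), x (c • v) = c • x v) (hz : ∀ (c : K) (v : V), z (c • v) = c • z v)
    (hK : Nat.card K % 3 = 2) (hn : Module.finrank K V = 6) (hz1 : z ≠ 1) :
    Nat.card (fx x) = Nat.card K ^ 2 ∧ ∀ v, z v = v → v = 0 := by
  have hV : Nat.card V = Nat.card K ^ 6 := by
    have : Module.Finite K V := Module.Finite.of_finite
    rw [← hn]; exact Module.natCard_eq_pow_finrank
  have hq : 2 ≤ Nat.card K := by omega
  -- `3` is invertible on `V`
  have hcV : Nat.card V % 3 = 1 := by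
    rw [hV, Nat.pow_mod, hK]
  obtain ⟨t, ht⟩ : ∃ t : ℕ, ∀ v : V, t • (3 : ℕ) • v = v := by
    have hcop : (3 : ℕ).Coprime (Nat.card V) := by
      rw [Nat.Prime.coprime_iff_not_dvd Nat.prime_three]
      omega
    obtain ⟨t, ht1, ht2⟩ := Nat.chineseRemainder hcop.symm 1 0
    obtain ⟨k, hk⟩ := (Nat.modEq_zero_iff_dvd.1 ht2)
    refine ⟨k, fun v => ?_⟩
    rw [smul_smul, mul_comm, ← hk]
    have h1 : (1 : ℕ) • v = v := one_nsmul v
    conv_rhs => rw [← h1]
    have h2 : addOrderOf v ∣ Nat.card V := addOrderOf_dvd_natCard v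
    rw [← mod_addOrderOf_nsmul v t, ← mod_addOrderOf_nsmul v 1]
    congr 1
    exact ht1.of_dvd h2
  have h3 : ∀ v : V, (3 : ℕ) • v = 0 → v = 0 := fun v hv => by rw [← ht v, hv, nsmul_zero]
  have hcard := C.card_ww ht
  obtain ⟨d, hd⟩ := card_pow (K := K) (wx x z : Set V) (wx x z).zero_mem (fun v hv w hw => (wx x z).add_mem hv hw)
    (fun c v hv => by
      have hv' := mem_wx.1 hv
      refine mem_wx.2 ⟨?_, ?_⟩
      · rw [hz, hz, ← smul_add, ← smul_add, hv'.1, smul_zero]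
      · rw [hx, hv'.2])
  change Nat.card (wx x z) = _ at hd
  -- `d` is even
  have hev : d % 2 = 0 := by
    have h4 : 3 ∣ Nat.card {v : wx x z // v ≠ 0} := by
      refine dvd_of_free Nat.prime_three (fun v => ⟨⟨z v.1.1, ?_⟩, ?_⟩) ?_ ?_
      · have hv' := mem_wx.1 v.1.2
        refine mem_wx.2 ⟨C.z_mem hv'.1, ?_⟩
        rw [C.cxz, hv'.2]
      · intro h
        apply v.2
        have h5 : z v.1.1 = 0 := congrArg Subtype.val h
        exact Subtype.ext (z.map_eq_zero_iff.1 h5)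
      · funext v
        refine Subtype.ext (Subtype.ext ?_)
        exact C.tz _
      · intro v hv
        apply v.2
        have h5 : z v.1.1 = v.1.1 := congrArg (fun a => a.1.1) hv
        exact Subtype.ext (C.w_nz (mem_wx.1 v.1.2).1 rfl h3 h5)
    have h5 : Nat.card {v : wx x z // v ≠ 0} + 1 = Nat.card (wx x z) := by
      classical
      have := Fintype.ofFinite (wx x z)
      rw [Nat.card_eq_fintype_card, Nat.card_eq_fintype_card, Fintype.card_subtype_compl,
        Fintype.card_subtype_eq]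
      exact Nat.sub_add_cancel Fintype.card_pos
    rw [hd] at h5
    by_contra hcon
    have h6 : d % 2 = 1 := by omega
    obtain ⟨k, hk⟩ : ∃ k, d = 2 * k + 1 := ⟨d / 2, by omega⟩
    have h7 : Nat.card K ^ d % 3 = 2 := by
      rw [Nat.pow_mod, hK, hk, pow_succ, pow_mul, Nat.mul_mod, Nat.pow_mod]
      norm_num
    omega
  -- `W ≠ 0`
  have hW : 1 < Nat.card (ww z) := by
    obtain ⟨v, hv⟩ : ∃ v, z v ≠ v := by
      by_contra hcon
      push Not at hcon
      exact hz1 (LinearEquiv.ext hcon)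
    rw [Finite.one_lt_card_iff_nontrivial]
    refine ⟨⟨⟨z v - v, ?_⟩, 0, ?_⟩⟩
    · rw [mem_ww, map_sub, map_sub, C.tz]
      abel
    · intro h
      exact hv (sub_eq_zero.1 (congrArg Subtype.val h))
  have hle : Nat.card (ww z) ≤ Nat.card V := Nat.card_le_card_of_injective _ Subtype.val_injective
  rw [hcard, hd, ← pow_mul] at hW hle
  rw [hV] at hle
  have hd3 : d * 3 ≤ 6 := (Nat.pow_le_pow_iff_right (by omega)).1 hle
  have hd0 : d ≠ 0 := by
    rintro rfl
    simp at hW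
  have hd2 : d = 2 := by omega
  subst hd2
  have hWV : Nat.card (ww z) = Nat.card V := by rw [hcard, hd, hV, ← pow_mul]
  have htop : ∀ v : V, v ∈ ww z := by
    have := AddSubgroup.eq_top_of_card_eq (ww z) hWV
    intro v
    rw [this]; trivial
  constructor
  · rw [← hd]
    refine Nat.card_congr (Equiv.subtypeEquivRight fun v => ?_)
    rw [mem_wx, mem_fx]
    exact ⟨fun h => ⟨htop v, h⟩, fun h => h.2⟩
  · intro v hv
    exact C.w_nz (htop v) rfl h3 hv

end Cfg

end

end Cfsg.Agent.H933.HT
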