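import Cfsg.Agent.H933.HT.U33T
import Cfsg.Agent.H933.HT.Sieve
import Cfsg.Agent.H933.HT.Three
import Cfsg.Agent.H933.HT.Cover
import Cfsg.Agent.H912.CrossList

/-!
# S3540, `n = 6`: `L / Z(L) ≅ U₃(3)` does not occur
-/

set_option autoImplicit false
set_option linter.unusedSectionVars false

universe u w

namespace Cfsg.Agent.H933.HT

open Cfsg.Agent.H828.HT Cfsg.Agent.H337.HT

variable {p : ℕ} [Fact p.Prime] {K : Type w} [Field K] {V : Type u} [AddCommGroup V] [Module (ZMod p) V] [Finite V]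
    [Module K V] {G L : Subgroup (V ≃ₗ[ZMod p] V)} {h : ℕ}

/-- `f x = 1`, `x` an `r`-element, `r` prime to `|Z(L)|` -/
theorem eq_one_of_ker {T : Type*} [Group T] {f : L →* T} (hf : f.ker = Subgroup.center L) {r : ℕ} (hr : r.Prime)
    (hz : ¬ r ∣ Nat.card (Subgroup.center L)) {x : L} (hx : f x = 1) {k : ℕ} (hk : x ^ r ^ k = 1) : x = 1 := by
  have h1 : x ∈ Subgroup.center L := by rw [← hf]; exact hx
  have h2 : orderOf x ∣ Nat.card (Subgroup.center L) := by
    have := orderOf_dvd_natCard (⟨x, h1⟩ : Subgroup.center L)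
    rwa [← Subgroup.orderOf_coe] at this
  have h3 : orderOf x ∣ r ^ k := orderOf_dvd_of_pow_eq_one hk
  have h4 : (r ^ k).Coprime (Nat.card (Subgroup.center L)) :=
    Nat.Coprime.pow_left k ((Nat.Prime.coprime_iff_not_dvd hr).2 hz)
  have h5 : orderOf x ∣ 1 := by rw [← h4]; exact Nat.dvd_gcd h3 h2
  exact orderOf_eq_one_iff.1 (Nat.dvd_one.1 h5)

/-- fixed spaces of the elements of order three -/
theorem u33_fix (H : QS p K V G L h) (hn : Module.finrank K V = 6) (hK : Nat.card K % 3 = 2)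
    {F : Type} [Field F] [Fintype F] (hF : Fintype.card F = 3 ^ 2) {f : L →* Cfsg.PSU 3 F 3}
    (hf : Function.Surjective f) (hker : f.ker = Subgroup.center L) (hz : ¬ 3 ∣ Nat.card (Subgroup.center L)) :
    (∀ y : L, orderOf y = 3 → Nat.card (fx (y : V ≃ₗ[ZMod p] V)) ≤ Nat.card K ^ 2) ∧
    ∃ x : L, orderOf x = 3 ∧ Nat.card (fx (x : V ≃ₗ[ZMod p] V)) = Nat.card K ^ 2 := by
  have h3p : Fact (Nat.Prime 3) := ⟨Nat.prime_three⟩
  have hq : 2 ≤ Nat.card K := H.two_le_card
  have hcL : Nat.card L = Nat.card (Subgroup.center L) * 6048 := by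
    rw [← u33_card hF, ← hker, ← Subgroup.card_mul_index f.ker, Subgroup.index_ker]
    congr 1
    rw [MonoidHom.range_eq_top.2 hf, Subgroup.card_top]
  -- the Sylow subgroups of `L`
  have key : ∀ P : Sylow 3 L, (∀ y ∈ P, y ≠ 1 → Nat.card (fx (y : V ≃ₗ[ZMod p] V)) ≤ Nat.card K ^ 2) ∧
      ∃ x ∈ P, x ≠ 1 ∧ x ^ 3 = 1 ∧ Nat.card (fx (x : V ≃ₗ[ZMod p] V)) = Nat.card K ^ 2 := by
    intro P
    have hinj : ∀ x ∈ P, f x = 1 → x = 1 := by
      intro x hx h1
      obtain ⟨k, hk⟩ := P.isPGroup' ⟨x, hx⟩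
      exact eq_one_of_ker hker Nat.prime_three hz h1 (k := k) (congrArg Subtype.val hk)
    have hinj' : Function.Injective (f.comp (P : Subgroup L).subtype) := by
      rw [injective_iff_map_eq_one]
      rintro ⟨x, hx⟩ h1
      exact Subtype.ext (hinj x hx h1)
    have hr : IsPGroup 3 (f.comp (P : Subgroup L).subtype).range := by
      have h1 : (f.comp (P : Subgroup L).subtype).range = (P : Subgroup L).map f := by
        rw [MonoidHom.range_comp, Subgroup.range_subtype]
      rw [h1]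
      exact P.isPGroup'.map f
    obtain ⟨Q, hQ⟩ := hr.exists_le_sylow
    obtain ⟨hQc, ⟨u, hu, v, hv, huv⟩, hexp⟩ := u33_sylow hF Q
    have hcP : Nat.card P = 27 := by
      have h1 : 3 ^ 3 ∣ Nat.card P := by
        refine P.pow_dvd_card_of_pow_dvd_card ?_
        rw [hcL]
        exact Dvd.dvd.mul_left (by norm_num) _
      have h2 : Nat.card P = Nat.card (f.comp (P : Subgroup L).subtype).range :=
        Nat.card_congr (MonoidHom.ofInjective hinj').toEquiv
      have h3 : Nat.card P ≤ 27 := by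
        rw [h2, ← hQc]
        exact Subgroup.card_le_of_le hQ
      have h4 : 0 < Nat.card P := Nat.card_pos
      exact le_antisymm h3 (Nat.le_of_dvd h4 h1)
    have hrange : (f.comp (P : Subgroup L).subtype).range = Q := by
      refine Subgroup.eq_of_le_of_card_ge hQ ?_
      rw [← Nat.card_congr (MonoidHom.ofInjective hinj').toEquiv, hcP, hQc]
    have hexpP : ∀ x : P, x ^ 3 = 1 := by
      intro x
      apply hinj'
      rw [map_pow, map_one]
      apply hexp
      have : (f.comp (P : Subgroup L).subtype) x ∈ (f.comp (P : Subgroup L).subtype).range := ⟨x, rfl⟩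
      rw [hrange] at this
      exact this
    obtain ⟨a, ha⟩ : u ∈ (f.comp (P : Subgroup L).subtype).range := by rw [hrange]; exact hu
    obtain ⟨b, hb⟩ : v ∈ (f.comp (P : Subgroup L).subtype).range := by rw [hrange]; exact hv
    have hab : a * b ≠ b * a := by
      intro h1
      apply huv
      rw [← ha, ← hb, ← map_mul, ← map_mul, h1]
    obtain ⟨hZ, hcom⟩ := p27 hcP ⟨a, b, hab⟩
    -- the configuration of a non-central element
    have conf : ∀ x g : P, g * x ≠ x * g → ∃ z : P, z ∈ Subgroup.center P ∧ z ≠ 1 ∧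
        Nat.card (fx ((x : L) : V ≃ₗ[ZMod p] V)) = Nat.card K ^ 2 ∧
        ∀ v : V, ((z : L) : V ≃ₗ[ZMod p] V) v = v → v = 0 := by
      intro x g hxg
      obtain ⟨z, hzd⟩ : ∃ z, z = x⁻¹ * g * x⁻¹⁻¹ * g⁻¹ := ⟨_, rfl⟩
      have hzc : z ∈ Subgroup.center P := by rw [hzd]; exact hcom x⁻¹ g
      have hgx : g * x = x * z * g := by rw [hzd]; group
      have hz1 : z ≠ 1 := by
        rintro rfl
        apply hxg
        rw [hgx, mul_one]
      have hx3 := hexpP x
      have hz3 := hexpP z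
      have C : Cfg ((x : L) : V ≃ₗ[ZMod p] V) ((g : L) : V ≃ₗ[ZMod p] V) ((z : L) : V ≃ₗ[ZMod p] V) :=
        { x3 := congrArg (fun y : P => ((y : L) : V ≃ₗ[ZMod p] V)) hx3
          z3 := congrArg (fun y : P => ((y : L) : V ≃ₗ[ZMod p] V)) hz3
          xz := congrArg (fun y : P => ((y : L) : V ≃ₗ[ZMod p] V)) (Subgroup.mem_center_iff.1 hzc x)
          gz := congrArg (fun y : P => ((y : L) : V ≃ₗ[ZMod p] V)) (Subgroup.mem_center_iff.1 hzc g)
          gx := congrArg (fun y : P => ((y : L) : V ≃ₗ[ZMod p] V)) hgx }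
      obtain ⟨h1, h2⟩ := C.main (K := K) (fun c v => H.lin _ (x : L).2 c v) (fun c v => H.lin _ (z : L).2 c v) hK hn (by
        intro h1
        exact hz1 (Subtype.ext (Subtype.ext h1)))
      exact ⟨z, hzc, hz1, h1, h2⟩
    constructor
    · intro y hy hy1
      by_cases hyc : (⟨y, hy⟩ : P) ∈ Subgroup.center P
      · obtain ⟨z, hzc, hz1, -, hz2⟩ := conf a b hab.symm
        -- `⟨y⟩ = Z(P)`
        have hpr : (Nat.card (Subgroup.center P)).Prime := by rw [hZ]; exact Nat.prime_three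
        have hy2 : (⟨⟨y, hy⟩, hyc⟩ : Subgroup.center P) ≠ 1 := by
          intro h1
          exact hy1 (congrArg (fun t : Subgroup.center P => ((t : P) : L)) h1)
        have hmem : (⟨z, hzc⟩ : Subgroup.center P) ∈ Subgroup.zpowers (⟨⟨y, hy⟩, hyc⟩ : Subgroup.center P) := by
          have := Fact.mk hpr
          exact mem_zpowers_of_prime_card rfl hy2
        obtain ⟨k, hk⟩ := Subgroup.mem_zpowers_iff.1 hmem
        have hk' : y ^ k = (z : L) := congrArg (fun t : Subgroup.center P => ((t : P) : L)) hk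
        have h1 : ∀ v : V, (y : V ≃ₗ[ZMod p] V) v = v → v = 0 := by
          intro v hv
          apply hz2
          have h5 : Subgroup.zpowers y ≤ MulAction.stabilizer L v := by
            rw [Subgroup.zpowers_le]
            exact hv
          have h6 : (z : L) ∈ MulAction.stabilizer L v := h5 (Subgroup.mem_zpowers_iff.2 ⟨k, hk'⟩)
          exact h6
        have h2 : Nat.card (fx (y : V ≃ₗ[ZMod p] V)) = 1 := by
          rw [Nat.card_eq_one_iff_unique]
          refine ⟨⟨fun s t => Subtype.ext ?_⟩, ⟨0⟩⟩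
          rw [h1 _ (mem_fx.1 s.2), h1 _ (mem_fx.1 t.2)]
        rw [h2]
        exact Nat.one_le_pow _ _ (by omega)
      · obtain ⟨g, hg⟩ : ∃ g : P, g * ⟨y, hy⟩ ≠ ⟨y, hy⟩ * g := by
          by_contra hcon
          push Not at hcon
          exact hyc (Subgroup.mem_center_iff.2 hcon)
        obtain ⟨z, -, -, h1, -⟩ := conf _ g hg
        exact h1.le
    · obtain ⟨z, -, -, h1, -⟩ := conf a b hab.symm
      refine ⟨a, a.2, ?_, congrArg Subtype.val (hexpP a), h1⟩
      intro h2
      have h3 : a = 1 := Subtype.ext h2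
      apply hab
      rw [h3, one_mul, mul_one]
  constructor
  · intro y hy
    have h1 : IsPGroup 3 (Subgroup.zpowers y) := IsPGroup.of_card (n := 1) (by rw [Nat.card_zpowers, hy, pow_one])
    obtain ⟨P, hP⟩ := h1.exists_le_sylow
    refine (key P).1 y (hP (Subgroup.mem_zpowers y)) ?_
    rintro rfl
    rw [orderOf_one] at hy
    omega
  · obtain ⟨P⟩ : Nonempty (Sylow 3 L) := inferInstance
    obtain ⟨x, -, hx1, hx3, hx⟩ := (key P).2
    exact ⟨x, orderOf_eq_prime hx3 hx1, hx⟩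

/-- **`n = 6`, `U₃(3)`** -/
theorem kill_six_U33 (H : QS p K V G L h) (hn : Module.finrank K V = 6)
    (hS : H912.Bd.IsU 3 3 (L ⧸ Subgroup.center L)) : False := by
  obtain ⟨F, _, _, hF, ⟨e⟩⟩ := hS
  have hq := H.two_le_card
  have hcS : Nat.card (L ⧸ Subgroup.center L) = 6048 := by rw [Nat.card_congr e.toEquiv, u33_card hF]
  have hcA : Nat.card (MulAut (L ⧸ Subgroup.center L)) = 12096 := by
    rw [Nat.card_congr (MulAut.congr e).toEquiv, u33_aut hF]
  have hco := H.coprime
  rw [hcS] at hco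
  have hc1 := H.cand (one_dvd h)
  rw [hcS, hcA, hn] at hc1
  have hl := u33_list hq hco hc1
  have hK : Nat.card K % 3 = 2 := by
    rcases hl with h1 | h1 | h1 | h1 <;> rw [h1]
  have hz : ¬ 3 ∣ Nat.card (Subgroup.center L) := by
    intro h1
    have h2 := h1.trans (card_center_dvd H)
    omega
  let f : L →* Cfsg.PSU 3 F 3 := e.toMonoidHom.comp (QuotientGroup.mk' (Subgroup.center L))
  have hf : Function.Surjective f := e.surjective.comp (QuotientGroup.mk'_surjective _)
  have hker : f.ker = Subgroup.center L := by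
    ext x
    rw [MonoidHom.mem_ker]
    change e _ = 1 ↔ _
    rw [map_eq_one_iff _ e.injective, QuotientGroup.mk'_apply, QuotientGroup.eq_one_iff]
  obtain ⟨hfx, x0, hx0, hx0f⟩ := u33_fix H hn hK hF hf hker hz
  -- `3 ∣ h`
  have h3 : 3 ∣ h := by
    obtain ⟨v, hv⟩ : ∃ v : fx (x0 : V ≃ₗ[ZMod p] V), v ≠ 0 := by
      have h1 : 1 < Nat.card (fx (x0 : V ≃ₗ[ZMod p] V)) := by
        rw [hx0f]
        exact Nat.one_lt_pow two_ne_zero (by omega)
      have := Finite.one_lt_card_iff_nontrivial.1 h1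
      exact exists_ne 0
    refine dvd_h H.half (g := ⟨x0, H.le x0.2⟩) ?_ (v := v.1) (fun h1 => hv (Subtype.ext h1)) (mem_fx.1 v.2)
    rw [← hx0, ← Subgroup.orderOf_coe, ← Subgroup.orderOf_coe x0]
  have hc3 := H.cand h3
  rw [hcS, hcA, hn] at hc3
  have hl3 := u33_list3 hq hco hc3
  have hV : Nat.card V = Nat.card K ^ 6 := by rw [H.card_V, hn]
  have hcL : 3 ^ 3 ∣ Nat.card L := by
    refine dvd_trans ?_ H.card_quot_dvd_L
    rw [hcS]; norm_num
  have hfix : ∀ v : V, v ≠ 0 → ∃ x : L, orderOf x = 3 ∧ (x : V ≃ₗ[ZMod p] V) v = v := fun v hv =>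
    exists_fix H Nat.prime_three hcL (by
      rw [hV]
      rcases hl3 with h1 | h1 | h1 <;> rw [h1] <;> norm_num) hv
  have hN : Nat.card {x : L // orderOf x = 3} ≤ 728 := by
    refine le_trans ?_ (u33_count hF)
    have hm : ∀ x : L, orderOf x = 3 → f x ≠ 1 ∧ f x ^ 3 = 1 := by
      intro x hx
      have hx3 : x ^ 3 = 1 := by rw [← hx]; exact pow_orderOf_eq_one x
      refine ⟨fun h1 => ?_, by rw [← map_pow, hx3, map_one]⟩
      have h2 := eq_one_of_ker hker Nat.prime_three hz h1 (k := 1) (by rw [pow_one]; exact hx3)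
      rw [h2, orderOf_one] at hx
      omega
    refine Nat.card_le_card_of_injective (fun x : {x : L // orderOf x = 3} =>
      (⟨f x.1, hm x.1 x.2⟩ : {t : Cfsg.PSU 3 F 3 // t ≠ 1 ∧ t ^ 3 = 1})) ?_
    intro x y hxy
    have h1 : f x.1 = f y.1 := congrArg Subtype.val hxy
    have h2 : f (x.1⁻¹ * y.1) = 1 := by rw [map_mul, map_inv, h1, inv_mul_cancel]
    have h3 : x.1⁻¹ * y.1 ∈ Subgroup.center L := by rw [← hker]; exact h2
    have hx3 : x.1 ^ 3 = 1 := orderOf_dvd_iff_pow_eq_one.1 (by rw [x.2])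
    have hy3 : y.1 ^ 3 = 1 := orderOf_dvd_iff_pow_eq_one.1 (by rw [y.2])
    have h4 : (x.1⁻¹ * y.1) ^ 3 = 1 := by
      have hcm : Commute x.1 (x.1⁻¹ * y.1) := Subgroup.mem_center_iff.1 h3 x.1
      have h5 : y.1 = x.1 * (x.1⁻¹ * y.1) := by group
      have h6 : y.1 ^ 3 = x.1 ^ 3 * (x.1⁻¹ * y.1) ^ 3 := by
        conv_lhs => rw [h5]
        exact hcm.mul_pow 3
      rw [hy3, hx3, one_mul] at h6
      exact h6.symm
    have h5 := eq_one_of_ker hker Nat.prime_three hz h2 (k := 1) (by rw [pow_one]; exact h4)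
    exact Subtype.ext (inv_mul_eq_one.1 h5)
  have hfin := cover_card Nat.prime_three hfix hN hfx
  rw [hV] at hfin
  rcases hl3 with h1 | h1 | h1 <;> rw [h1] at hfin <;> norm_num at hfin

end Cfsg.Agent.H933.HT
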