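import Cfsg.Agent.H188.Der.Ro
import Cfsg.Agent.H394.SqPsu3
import Cfsg.Agent.S0815

/-!
# The Sylow 3-subgroups of `PSU₃(3)`

* `u33_card`, `u33_aut`: `|T| = 6048`, `|Aut T| = 12096`;
* `u33_sylow`: order 27, not abelian, exponent three;
* `u33_count`: at most 728 elements of order three.
-/

set_option autoImplicit false
set_option linter.unusedSectionVars false

universe u w

namespace Cfsg.Agent.H933.HT

open Cfsg Subgroup

section

variable {F : Type*} [Field F] [Fintype F]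

theorem u33_card (hF : Fintype.card F = 3 ^ 2) : Nat.card (PSU 3 F 3) = 6048 := by
  have hcard := Cfsg.Agent.H394.SqPsu3.card_psu3 hF
  norm_num at hcard
  omega

theorem u33_aut (hF : Fintype.card F = 3 ^ 2) : Nat.card (MulAut (PSU 3 F 3)) = 12096 := by
  have : Fact (Nat.Prime 3) := ⟨Nat.prime_three⟩
  have h := S0815.result (F := F) 3 1 le_rfl (q := 3) (by norm_num) hF 3 le_rfl (by norm_num)
  rw [u33_card hF] at h
  rw [h]
  norm_num

end

section

open Cfsg.Agent.UThreeGen.MatGroup Cfsg.Agent.H906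

/-- a subgroup of order 27 and exponent three -/
theorem exists_exp {F : Type*} [Field F] [Fintype F] (hF : Fintype.card F = 3 ^ 2) :
    ∃ U : Subgroup (PSU 3 F 3), Nat.card U = 27 ∧ ∀ u ∈ U, u ^ 3 = 1 := by
  have h3p : Fact (Nat.Prime 3) := ⟨Nat.prime_three⟩
  have hK : Nat.card F = 3 ^ 2 := by rw [Nat.card_eq_fintype_card, hF]
  have hch : CharP F 3 := by
    obtain ⟨r, hr⟩ := CharP.exists F
    have hrp : Fact r.Prime := ⟨CharP.char_is_prime F r⟩
    obtain ⟨a, ha0, ha⟩ := FiniteField.card F r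
    have h1 : r ∣ 3 ^ 2 := by
      rw [← hF, ha]; exact dvd_pow_self r a.pos.ne'
    have h2 := (Nat.prime_dvd_prime_iff_eq hrp.out Nat.prime_three).1 (hrp.out.dvd_of_dvd_pow h1)
    rwa [h2] at hr
  have hexp : ExpChar F 3 := ExpChar.prime Nat.prime_three
  set σ : F →+* F := frobenius F 3 with hσd
  have hs : ∀ x, σ x = x ^ 3 := fun x => by rw [hσd, frobenius_def]
  have hcardm : ∀ x : F, x ^ (3 * 3) = x := by
    intro x
    have := FiniteField.pow_card x
    rwa [← Nat.card_eq_fintype_card, hK, sq] at this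
  have hσ : Fact (∀ x, σ (σ x) = x) := ⟨fun x => by rw [hs, hs, ← pow_mul, hcardm]⟩
  obtain ⟨π, hπ, hk⟩ := Cfsg.Agent.H906.exists_psu_hom (σ := σ) (by norm_num) hs hK
  have hinj : Function.Injective (π.comp (emb σ)) := by
    rw [injective_iff_map_eq_one]
    intro x h
    refine eq_one_of_mem_center ?_
    rw [← hk]; exact h
  have h30 : (3 : F) = 0 := by
    have := CharP.cast_eq_zero F 3
    exact_mod_cast this
  refine ⟨(π.comp (emb σ)).range, ?_, ?_⟩
  · rw [← Nat.card_congr (MonoidHom.ofInjective hinj).toEquiv, card_HG (σ := σ) (by norm_num) hs hK]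
    norm_num
  · rintro _ ⟨x, rfl⟩
    have hx3 : x ^ 3 = 1 := by
      rw [pow_succ, pow_two]
      ext
      · simp only [mul_a, one_a]
        linear_combination x.a * h30
      · simp only [mul_b, mul_a, one_b]
        linear_combination (x.b + x.a * σ x.a) * h30
    rw [← map_pow, hx3, map_one]

end

section

variable {F : Type*} [Field F] [Fintype F]

instance u33_fin : Finite (PSU 3 F 3) := Quotient.finite _

theorem u33_sylow_card (hF : Fintype.card F = 3 ^ 2) [Fact (Nat.Prime 3)] (P : Sylow 3 (PSU 3 F 3)) :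
    Nat.card P = 27 := by
  rw [P.card_eq_multiplicity, u33_card hF]
  have : Nat.factorization 6048 3 = 3 := by
    rw [Nat.factorization_def _ Nat.prime_three]
    have h1 : (6048 : ℕ) = 3 ^ 3 * 224 := by norm_num
    rw [h1, padicValNat.mul (by norm_num) (by norm_num), padicValNat.prime_pow]
    have : padicValNat 3 224 = 0 := padicValNat.eq_zero_of_not_dvd (by norm_num)
    omega
  rw [this]; norm_num

/-- every Sylow 3-subgroup is isomorphic to a given one -/
theorem u33_equiv (hF : Fintype.card F = 3 ^ 2) [Fact (Nat.Prime 3)] (P : Sylow 3 (PSU 3 F 3)) {U : Subgroup (PSU 3 F 3)}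
    (hU : Nat.card U = 27) : ∃ g : PSU 3 F 3, ∀ x, x ∈ P ↔ g⁻¹ * x * g ∈ U := by
  obtain ⟨Q, hQ⟩ := Cfsg.Agent.H188.Der.exists_sylow_of_card (p := 3) (k := 3) (by rw [hU]; norm_num)
    (by rw [u33_card hF]; norm_num)
  obtain ⟨g, hg⟩ := MulAction.exists_smul_eq (PSU 3 F 3) Q P
  refine ⟨g, fun x => ?_⟩
  rw [← hg, ← hQ]
  constructor
  · rintro ⟨z, hz, hzx⟩
    have h1 : g * z * g⁻¹ = x := hzx
    rw [← h1]
    have : g⁻¹ * (g * z * g⁻¹) * g = z := by group
    rw [this]; exact hz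
  · intro h
    refine ⟨g⁻¹ * x * g, h, ?_⟩
    change g * (g⁻¹ * x * g) * g⁻¹ = x
    group

/-- **Sylow 3-subgroups of `U₃(3)`** -/
theorem u33_sylow (hF : Fintype.card F = 3 ^ 2) [Fact (Nat.Prime 3)] (P : Sylow 3 (PSU 3 F 3)) :
    Nat.card P = 27 ∧ (∃ u ∈ P, ∃ v ∈ P, u * v ≠ v * u) ∧ ∀ u ∈ P, u ^ 3 = 1 := by
  refine ⟨u33_sylow_card hF P, ?_, ?_⟩
  · have hch : CharP F 3 := by
      obtain ⟨r, hr⟩ := CharP.exists F
      have hrp : Fact r.Prime := ⟨CharP.char_is_prime F r⟩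
      obtain ⟨a, ha0, ha⟩ := FiniteField.card F r
      have h1 : r ∣ 3 ^ 2 := by
        rw [← hF, ha]; exact dvd_pow_self r a.pos.ne'
      have h2 := (Nat.prime_dvd_prime_iff_eq hrp.out Nat.prime_three).1 (hrp.out.dvd_of_dvd_pow h1)
      rwa [h2] at hr
    obtain ⟨B, U, c, w, hro⟩ := Cfsg.Agent.H188.Der.exists_ro (p := 3) hF (by norm_num)
    obtain ⟨u, hu, ⟨v, hv, huv⟩, -⟩ := hro.reg
    obtain ⟨g, hg⟩ := u33_equiv hF P (U := U) (by rw [hro.cardU]; norm_num)
    refine ⟨g * u * g⁻¹, (hg _).2 ?_, g * v * g⁻¹, (hg _).2 ?_, ?_⟩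
    · have : g⁻¹ * (g * u * g⁻¹) * g = u := by group
      rw [this]; exact hu
    · have : g⁻¹ * (g * v * g⁻¹) * g = v := by group
      rw [this]; exact hv
    · intro h
      apply huv
      have h1 : g * (u * v) * g⁻¹ = g * (v * u) * g⁻¹ := by
        calc g * (u * v) * g⁻¹ = g * u * g⁻¹ * (g * v * g⁻¹) := by group
          _ = g * v * g⁻¹ * (g * u * g⁻¹) := h
          _ = _ := by group
      exact mul_left_cancel (mul_right_cancel h1)
  · obtain ⟨U, hU, hexp⟩ := exists_exp hF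
    obtain ⟨g, hg⟩ := u33_equiv hF P hU
    intro u hu
    have h1 := hexp _ ((hg u).1 hu)
    have h2 : (g⁻¹ * u * g) ^ 3 = g⁻¹ * u ^ 3 * g := by
      rw [pow_succ, pow_two, pow_succ, pow_two]; group
    rw [h2] at h1
    have h3 : u ^ 3 = g * (g⁻¹ * u ^ 3 * g) * g⁻¹ := by group
    rw [h3, h1]; group

theorem u33_card_sylow (hF : Fintype.card F = 3 ^ 2) [Fact (Nat.Prime 3)] : Nat.card (Sylow 3 (PSU 3 F 3)) ≤ 28 := by
  have hch : CharP F 3 := by
    obtain ⟨r, hr⟩ := CharP.exists F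
    have hrp : Fact r.Prime := ⟨CharP.char_is_prime F r⟩
    obtain ⟨a, ha0, ha⟩ := FiniteField.card F r
    have h1 : r ∣ 3 ^ 2 := by
      rw [← hF, ha]; exact dvd_pow_self r a.pos.ne'
    have h2 := (Nat.prime_dvd_prime_iff_eq hrp.out Nat.prime_three).1 (hrp.out.dvd_of_dvd_pow h1)
    rwa [h2] at hr
  obtain ⟨B, U, c, w, hro⟩ := Cfsg.Agent.H188.Der.exists_ro (p := 3) hF (by norm_num)
  have hcU : Nat.card U = 27 := by rw [hro.cardU]; norm_num
  have hcB : Nat.card B = 216 := by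
    have := hro.card_B
    rw [u33_card hF] at this
    norm_num at this
    omega
  obtain ⟨Q, hQ⟩ := Cfsg.Agent.H188.Der.exists_sylow_of_card (p := 3) (k := 3) (U := U) (by rw [hcU]; norm_num)
    (by rw [u33_card hF]; norm_num)
  rw [Sylow.card_eq_index_normalizer Q]
  have hle : B ≤ normalizer ((Q : Subgroup (PSU 3 F 3)) : Set (PSU 3 F 3)) := by
    intro b hb
    rw [hQ]
    rw [Subgroup.mem_normalizer_iff]
    intro x
    constructor
    · intro hx
      exact hro.data.norm b hb x hx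
    · intro hx
      have := hro.data.norm b⁻¹ (B.inv_mem hb) _ hx
      have e : b⁻¹ * (b * x * b⁻¹) * b⁻¹⁻¹ = x := by group
      rwa [e] at this
  have h1 := Subgroup.index_dvd_of_le hle
  have h2 : B.index = 28 := by
    have := B.card_mul_index
    rw [hcB, u33_card hF] at this
    omega
  rw [h2] at h1
  exact Nat.le_of_dvd (by norm_num) h1

/-- **at most 728 elements of order three** -/
theorem u33_count (hF : Fintype.card F = 3 ^ 2) : Nat.card {t : PSU 3 F 3 // t ≠ 1 ∧ t ^ 3 = 1} ≤ 728 := by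
  classical
  have h3p : Fact (Nat.Prime 3) := ⟨Nat.prime_three⟩
  have h1 : ∀ t : {t : PSU 3 F 3 // t ≠ 1 ∧ t ^ 3 = 1}, ∃ P : Sylow 3 (PSU 3 F 3), t.1 ∈ P := by
    intro t
    have : IsPGroup 3 (zpowers t.1) := by
      refine IsPGroup.of_card (n := 1) ?_
      rw [Nat.card_zpowers, pow_one]
      exact orderOf_eq_prime t.2.2 t.2.1
    obtain ⟨P, hP⟩ := this.exists_le_sylow
    exact ⟨P, hP (mem_zpowers _)⟩
  choose P hP using h1
  let f : {t : PSU 3 F 3 // t ≠ 1 ∧ t ^ 3 = 1} → Σ P : Sylow 3 (PSU 3 F 3), {u : P // u ≠ 1} :=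
    fun t => ⟨P t, ⟨⟨t.1, hP t⟩, fun h => t.2.1 (congrArg Subtype.val h)⟩⟩
  have hf : Function.Injective f := by
    intro s t h
    apply Subtype.ext
    have h2 : ∀ a b : Σ P : Sylow 3 (PSU 3 F 3), {u : P // u ≠ 1}, a = b → (a.2.1 : PSU 3 F 3) = b.2.1 := by
      rintro a _ rfl; rfl
    exact h2 _ _ h
  have h4 := Nat.card_le_card_of_injective f hf
  have hft : Fintype (Sylow 3 (PSU 3 F 3)) := Fintype.ofFinite _
  have h5 : ∀ P : Sylow 3 (PSU 3 F 3), Nat.card {u : P // u ≠ 1} = 26 := by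
    intro P
    have h6 := (u33_sylow hF P).1
    have h8 : Nat.card {u : P // u = 1} = 1 := by
      rw [Nat.card_eq_one_iff_unique]
      exact ⟨⟨fun a b => Subtype.ext (a.2.trans b.2.symm)⟩, ⟨⟨1, rfl⟩⟩⟩
    have h9 : Nat.card P = Nat.card {u : P // u = 1} + Nat.card {u : P // u ≠ 1} := by
      rw [← Nat.card_sum]
      exact Nat.card_congr (Equiv.sumCompl (fun u : P => u = 1)).symm
    omega
  rw [Nat.card_sigma, Finset.sum_congr rfl (fun P _ => h5 P), Finset.sum_const, Finset.card_univ, smul_eq_mul,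
    ← Nat.card_eq_fintype_card] at h4
  have h7 := u33_card_sylow hF
  omega

end

end Cfsg.Agent.H933.HT
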