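import Cfsg.Agent.H933.HT.Cover

/-!
# S3540: an element of order five conjugate to its square has a fixed vector in `𝔽₁₉⁶`
-/

set_option autoImplicit false
set_option linter.unusedSectionVars false

universe u w

namespace Cfsg.Agent.H933.HT

open Cfsg.Agent.H828.HT Cfsg.Agent.H337.HT

variable {p : ℕ} [Fact p.Prime] {V : Type u} [AddCommGroup V] [Module (ZMod p) V] [Finite V]

/-- `w² + c w + 1` -/
def qd (w : V ≃ₗ[ZMod p] V) (c : ℕ) : V →+ V where
  toFun v := w (w v) + c • w v + v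
  map_zero' := by simp
  map_add' a b := by simp only [map_add, smul_add]; abel

theorem qd_apply (w : V ≃ₗ[ZMod p] V) (c : ℕ) (v : V) : qd w c v = w (w v) + c • w v + v := rfl

section

variable {w g : V ≃ₗ[ZMod p] V} (h19 : ∀ v : V, (19 : ℕ) • v = 0) (hw5 : ∀ v, w (w (w (w (w v)))) = v)
  (hgw : ∀ v, g (w v) = w (w (g v))) (hfix : ∀ v, w v = v → v = 0)

include hw5 hfix in
theorem sum_zero (v : V) : w (w (w (w v))) + w (w (w v)) + w (w v) + w v + v = 0 := by
  apply hfix
  rw [map_add, map_add, map_add, map_add, hw5]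
  abel

include h19 hw5 hfix in
theorem q15_5 (v : V) : qd w 15 (qd w 5 v) = 0 := by
  have h1 := sum_zero hw5 hfix v
  have h2 : qd w 15 (qd w 5 v) = (w (w (w (w v))) + w (w (w v)) + w (w v) + w v + v) +
      (19 : ℕ) • (w (w (w v)) + (4 : ℕ) • w (w v) + w v) := by
    simp only [qd_apply, map_add, map_nsmul, smul_add, smul_smul]
    module
  rw [h2, h1, h19, add_zero]

include h19 hw5 hfix in
theorem q5_15 (v : V) : qd w 5 (qd w 15 v) = 0 := by
  have h1 := sum_zero hw5 hfix v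
  have h2 : qd w 5 (qd w 15 v) = (w (w (w (w v))) + w (w (w v)) + w (w v) + w v + v) +
      (19 : ℕ) • (w (w (w v)) + (4 : ℕ) • w (w v) + w v) := by
    simp only [qd_apply, map_add, map_nsmul, smul_add, smul_smul]
    module
  rw [h2, h1, h19, add_zero]

include h19 in
theorem inter_zero {v : V} (h1 : qd w 15 v = 0) (h2 : qd w 5 v = 0) : v = 0 := by
  have h3 : w v = (2 : ℕ) • (qd w 15 v - qd w 5 v) - (19 : ℕ) • w v := by
    simp only [qd_apply]
    module
  rw [h1, h2, h19, sub_zero, sub_zero, smul_zero] at h3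
  exact w.map_eq_zero_iff.1 h3

include h19 hw5 hfix in
theorem exists_sum (v : V) : ∃ a b, qd w 15 a = 0 ∧ qd w 5 b = 0 ∧ a + b = v := by
  obtain ⟨u, hu⟩ : ∃ u, w u = v := ⟨_, hw5 v⟩
  refine ⟨(17 : ℕ) • qd w 5 u, (17 * 18 : ℕ) • qd w 15 u, ?_, ?_, ?_⟩
  · rw [map_nsmul, q15_5 h19 hw5 hfix, smul_zero]
  · rw [map_nsmul, q5_15 h19 hw5 hfix, smul_zero]
  · have h3 : (17 : ℕ) • qd w 5 u + (17 * 18 : ℕ) • qd w 15 u =
        w u + (19 : ℕ) • ((17 : ℕ) • w (w u) + (246 : ℕ) • w u + (17 : ℕ) • u) := by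
      simp only [qd_apply]
      module
    rw [h3, h19, add_zero, hu]

include h19 in
theorem g_15 {v : V} (hgw : ∀ v, g (w v) = w (w (g v))) (hv : qd w 15 (g v) = 0) : qd w 5 v = 0 := by
  apply g.injective
  have h1 : g (qd w 5 v) = w (w (w (w (g v)))) + (5 : ℕ) • w (w (g v)) + g v := by
    rw [qd_apply, map_add, map_add, map_nsmul, hgw, hgw]
  have h2 : w (w (w (w (g v)))) + (5 : ℕ) • w (w (g v)) + g v =
      (w (w (qd w 15 (g v))) + (4 : ℕ) • w (qd w 15 (g v)) + qd w 15 (g v)) - (19 : ℕ) • (w (w (w (g v))) +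
        (3 : ℕ) • w (w (g v)) + w (g v)) := by
    simp only [qd_apply, map_add, map_nsmul, smul_add, smul_smul]
    module
  rw [h1, h2, hv, map_zero, map_zero, smul_zero, h19, add_zero, add_zero, sub_zero, map_zero]

include h19 in
theorem g_5 {v : V} (hgw : ∀ v, g (w v) = w (w (g v))) (hv : qd w 5 (g v) = 0) : qd w 15 v = 0 := by
  apply g.injective
  have h1 : g (qd w 15 v) = w (w (w (w (g v)))) + (15 : ℕ) • w (w (g v)) + g v := by
    rw [qd_apply, map_add, map_add, map_nsmul, hgw, hgw]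
  have h2 : w (w (w (w (g v)))) + (15 : ℕ) • w (w (g v)) + g v =
      (w (w (qd w 5 (g v))) + (14 : ℕ) • w (qd w 5 (g v)) + qd w 5 (g v)) - (19 : ℕ) • (w (w (w (g v))) +
        (3 : ℕ) • w (w (g v)) + w (g v)) := by
    simp only [qd_apply, map_add, map_nsmul, smul_add, smul_smul]
    module
  rw [h1, h2, hv, map_zero, map_zero, smul_zero, h19, add_zero, add_zero, sub_zero, map_zero]

include h19 hw5 hfix hgw in
theorem five_contra (hV : Nat.card V = 19 ^ 6) : False := by
  let A := (qd w 15).ker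
  let B := (qd w 5).ker
  have hA : ∀ v, v ∈ A ↔ qd w 15 v = 0 := fun v => Iff.rfl
  have hB : ∀ v, v ∈ B ↔ qd w 5 v = 0 := fun v => Iff.rfl
  -- `|V| = |A| |B|`
  have h1 : Nat.card V = Nat.card A * Nat.card B := by
    rw [← Nat.card_prod]
    refine (Nat.card_congr (Equiv.ofBijective (fun x : A × B => (x.1 : V) + x.2) ⟨?_, ?_⟩)).symm
    · rintro ⟨a, b⟩ ⟨a', b'⟩ h
      have h2 : (a : V) + b = a' + b' := h
      have h3 : (a : V) - a' = b' - b := by rw [sub_eq_sub_iff_add_eq_add, h2, add_comm]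
      have h4 : (a : V) - a' = 0 := by
        apply inter_zero h19 (w := w)
        · exact A.sub_mem a.2 a'.2
        · rw [h3]; exact B.sub_mem b'.2 b.2
      have h5 : (b' : V) - b = 0 := by rw [← h3, h4]
      exact Prod.ext (Subtype.ext (sub_eq_zero.1 h4)) (Subtype.ext (sub_eq_zero.1 h5).symm)
    · intro v
      obtain ⟨a, b, ha, hb, hab⟩ := exists_sum h19 hw5 hfix v
      exact ⟨(⟨a, ha⟩, ⟨b, hb⟩), hab⟩
  have h2 : Nat.card A ≤ Nat.card B := by
    refine Nat.card_le_card_of_injective (fun a : A => (⟨g⁻¹ a.1, g_15 h19 hgw (by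
      have : g (g⁻¹ a.1) = a.1 := by
        change (g * g⁻¹) a.1 = a.1
        rw [mul_inv_cancel]; rfl
      rw [this]; exact a.2)⟩ : B)) ?_
    intro a b hab
    have h3 : g⁻¹ a.1 = g⁻¹ b.1 := congrArg Subtype.val hab
    exact Subtype.ext ((g⁻¹ : V ≃ₗ[ZMod p] V).injective h3)
  have h3 : Nat.card B ≤ Nat.card A := by
    refine Nat.card_le_card_of_injective (fun a : B => (⟨g⁻¹ a.1, g_5 h19 hgw (by
      have : g (g⁻¹ a.1) = a.1 := by
        change (g * g⁻¹) a.1 = a.1
        rw [mul_inv_cancel]; rfl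
      rw [this]; exact a.2)⟩ : A)) ?_
    intro a b hab
    have h3 : g⁻¹ a.1 = g⁻¹ b.1 := congrArg Subtype.val hab
    exact Subtype.ext ((g⁻¹ : V ≃ₗ[ZMod p] V).injective h3)
  have h4 : Nat.card A = Nat.card B := le_antisymm h2 h3
  rw [hV, ← h4, ← pow_two] at h1
  have h5 : Nat.card A = 19 ^ 3 := by
    have : (19 ^ 3) ^ 2 = Nat.card A ^ 2 := by rw [← h1, ← pow_mul]
    exact (Nat.pow_left_injective two_ne_zero this).symm
  have h6 : 5 ∣ Nat.card {a : A // a ≠ 0} := by
    refine dvd_of_free (by norm_num) (fun v => ⟨⟨w v.1.1, ?_⟩, ?_⟩) ?_ ?_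
    · have h7 := (hA _).1 v.1.2
      rw [hA]
      have h8 : qd w 15 (w v.1.1) = w (qd w 15 v.1.1) := by
        simp only [qd_apply, map_add, map_nsmul]
      rw [h8, h7, map_zero]
    · intro h
      apply v.2
      have h5 : w v.1.1 = 0 := congrArg Subtype.val h
      exact Subtype.ext (w.map_eq_zero_iff.1 h5)
    · funext v
      refine Subtype.ext (Subtype.ext ?_)
      exact hw5 _
    · intro v hv
      apply v.2
      have h5 : w v.1.1 = v.1.1 := congrArg (fun a => a.1.1) hv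
      exact Subtype.ext (hfix _ h5)
  have h7 := card_ne (X := A) 0
  have e : (19 : ℕ) ^ 3 = 6859 := by norm_num
  rw [h5, e] at h7
  omega

end

/-- **an element of order five conjugate to its square has a fixed vector in `𝔽₁₉⁶`** -/
theorem five_fix {w g : V ≃ₗ[ZMod p] V} (hp : p = 19) (hV : Nat.card V = 19 ^ 6) (hw5 : w ^ 5 = 1)
    (hgw : g * w = w ^ 2 * g) : ∃ v, v ≠ 0 ∧ w v = v := by
  subst hp
  by_contra hcon
  push Not at hcon
  refine five_contra (w := w) (g := g) ?_ ?_ ?_ ?_ hV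
  · intro v
    have h1 : ((19 : ℕ) : ZMod 19) = 0 := ZMod.natCast_self 19
    rw [← Nat.cast_smul_eq_nsmul (ZMod 19), h1, zero_smul]
  · intro v
    exact LinearEquiv.congr_fun hw5 v
  · intro v
    exact LinearEquiv.congr_fun hgw v
  · intro v hv
    by_contra h0
    exact hcon v h0 hv

end Cfsg.Agent.H933.HT
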