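import Cfsg.Agent.H933.HT.U33
import Cfsg.Agent.H933.HT.Five
import Cfsg.Agent.H373.OC.PSUFour
import Cfsg.Agent.S0280
import Cfsg.Agent.S0815

/-!
# S3540, `n = 6`: `L / Z(L) ≅ U₄(3)` does not occur
-/

set_option autoImplicit false
set_option linter.unusedSectionVars false

universe u w

namespace Cfsg.Agent.H933.HT

open Cfsg.Agent.H828.HT Cfsg.Agent.H337.HT Cfsg.Agent.ClassicalGeometry.PSUAutBasic

section

variable {F : Type*} [Field F] [Fintype F]

theorem u43_card (hF : Fintype.card F = 3 ^ 2) : Nat.card (Cfsg.PSU 4 F 3) = 3265920 := by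
  have h := S0280.result hF 4 (by norm_num)
  generalize Nat.card (Cfsg.PSU 4 F 3) = N at h ⊢
  norm_num [Finset.prod_range_succ] at h
  omega

theorem u43_aut (hF : Fintype.card F = 3 ^ 2) : Nat.card (MulAut (Cfsg.PSU 4 F 3)) = 26127360 := by
  have : Fact (Nat.Prime 3) := ⟨Nat.prime_three⟩
  have h := S0815.result (F := F) 3 1 le_rfl (q := 3) (by norm_num) hF 4 (by norm_num) (by norm_num)
  rw [u43_card hF] at h
  rw [h]
  norm_num

theorem charP_three (hF : Fintype.card F = 3 ^ 2) : CharP F 3 := by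
  obtain ⟨r, hr⟩ := CharP.exists F
  have hrp : Fact r.Prime := ⟨CharP.char_is_prime F r⟩
  obtain ⟨a, ha0, ha⟩ := FiniteField.card F r
  have h1 : r ∣ 3 ^ 2 := by
    rw [← hF, ha]; exact dvd_pow_self r a.pos.ne'
  have h2 := (Nat.prime_dvd_prime_iff_eq hrp.out Nat.prime_three).1 (hrp.out.dvd_of_dvd_pow h1)
  rwa [h2] at hr

/-- an element of order five of `Sp₄(3)` -/
def y5 : H373.OC.Sp4 (ZMod 3) :=
  ⟨Matrix.fromBlocks !![2, 1; 0, 0] !![0, 0; 1, 1] !![1, 2; 0, 2] !![2, 0; 1, 1], by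
    rw [SymplecticGroup.mem_iff]; decide⟩

/-- it is conjugate to its square -/
def g5 : H373.OC.Sp4 (ZMod 3) :=
  ⟨Matrix.fromBlocks !![0, 1; 1, 1] !![2, 1; 2, 0] !![0, 0; 0, 0] !![2, 1; 1, 0], by
    rw [SymplecticGroup.mem_iff]; decide⟩

theorem y5_pow : y5 ^ 5 = 1 := by
  apply Subtype.ext
  rw [SubmonoidClass.coe_pow]
  decide

theorem y5_ne : y5 ≠ 1 := by
  intro h
  have h1 := congrArg (fun A : H373.OC.Sp4 (ZMod 3) => A.1 (Sum.inl 0) (Sum.inl 0)) h
  revert h1
  decide

theorem g5_y5 : g5 * y5 = y5 ^ 2 * g5 := by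
  apply Subtype.ext
  decide

/-- **an element of order five of `U₄(3)` conjugate to its square** -/
theorem u43_five (hF : Fintype.card F = 3 ^ 2) :
    ∃ y g : Cfsg.PSU 4 F 3, y ≠ 1 ∧ y ^ 5 = 1 ∧ g * y = y ^ 2 * g := by
  have h3p : Fact (Nat.Prime 3) := ⟨Nat.prime_three⟩
  have hch := charP_three hF
  have h2 : (2 : F) ≠ 0 := by
    intro h
    have h3 : (3 : F) = 0 := by
      have := CharP.cast_eq_zero F 3
      exact_mod_cast this
    have : (1 : F) = 0 := by linear_combination h3 - h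
    exact one_ne_zero this
  obtain ⟨ψ, hψ, -⟩ := H373.OC.exists_spSU (q := 3) hF h2 (ZMod.castHom (dvd_refl 3) F) (by
    intro x
    rw [← map_pow, ZMod.pow_card])
  refine ⟨pr 4 F 3 (ψ y5), pr 4 F 3 (ψ g5), ?_, ?_, ?_⟩
  · intro h
    rw [pr_eq_one_iff] at h
    have h3 := Subgroup.mem_center_iff.1 h (ψ g5)
    rw [← map_mul, ← map_mul] at h3
    have h4 := hψ h3
    rw [g5_y5, pow_two, mul_assoc] at h4
    have h5 := mul_left_cancel h4
    have h6 : y5 = 1 := mul_right_cancel (h5.trans (one_mul g5).symm)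
    exact y5_ne h6
  · rw [← map_pow, ← map_pow, y5_pow, map_one, map_one]
  · rw [← map_mul, ← map_mul, g5_y5, map_mul, map_mul, map_pow, map_pow]

end

variable {p : ℕ} [Fact p.Prime] {K : Type w} [Field K] {V : Type u} [AddCommGroup V] [Module (ZMod p) V] [Finite V]
    [Module K V] {G L : Subgroup (V ≃ₗ[ZMod p] V)} {h : ℕ}

/-- the `K`-linear endomorphism -/
def toEnd (H : QS p K V G L h) : L →* Module.End K V where
  toFun l :=
    { toFun := fun v => (l : V ≃ₗ[ZMod p] V) v
      map_add' := fun a b => map_add (l : V ≃ₗ[ZMod p] V) a b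
      map_smul' := fun c v => H.lin _ l.2 c v }
  map_one' := LinearMap.ext fun _ => rfl
  map_mul' _ _ := LinearMap.ext fun _ => rfl

/-- a matrix representation of `L` -/
theorem exists_rep (H : QS p K V G L h) {n : ℕ} (hn : Module.finrank K V = n) :
    ∃ ρ : L →* Matrix.GeneralLinearGroup (Fin n) K, Function.Injective ρ := by
  have : Module.Finite K V := Module.Finite.of_finite
  let b : Module.Basis (Fin n) K V := Module.finBasisOfFinrankEq K V hn
  let e : Module.End K V ≃ₐ[K] Matrix (Fin n) (Fin n) K := LinearMap.toMatrixAlgEquiv b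
  refine ⟨MonoidHom.toHomUnits ((e : Module.End K V →* Matrix (Fin n) (Fin n) K).comp (toEnd H)), ?_⟩
  intro x y hxy
  have h1 := congrArg Units.val hxy
  rw [MonoidHom.coe_toHomUnits, MonoidHom.coe_toHomUnits] at h1
  have h2 : toEnd H x = toEnd H y := e.injective h1
  apply Subtype.ext
  apply LinearEquiv.ext
  intro v
  exact LinearMap.congr_fun h2 v

/-- a projective representation in the sense of `H912` -/
theorem exists_PR (H : QS p K V G L h) {n : ℕ} (hn : Module.finrank K V = n) {T : Type*} [Group T] {f : L →* T}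
    (hf : Function.Surjective f) (hker : f.ker = Subgroup.center L) {r : ℕ} (hr : r.Prime)
    (hz : ¬ r ∣ Nat.card (Subgroup.center L)) : H912.Bd.PR K n r T := by
  obtain ⟨ρ, hρ⟩ := exists_rep H hn
  let e := MonoidHom.ofInjective hρ
  refine ⟨ρ.range, inferInstance, f.comp e.symm.toMonoidHom, ρ.range.subtype, hf.comp e.symm.surjective, ?_, ?_, ?_⟩
  · intro x hx y
    have h1 : e.symm x ∈ Subgroup.center L := by rw [← hker]; exact hx
    have h2 := Subgroup.mem_center_iff.1 h1 (e.symm y)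
    apply e.symm.injective
    rw [map_mul, map_mul]
    exact h2.symm
  · have h1 : Nat.card (f.comp e.symm.toMonoidHom).ker = Nat.card (Subgroup.center L) := by
      rw [← hker]
      refine Nat.card_congr (Equiv.subtypeEquiv e.symm.toEquiv ?_)
      intro x
      rfl
    rw [h1, Nat.coprime_comm, Nat.Prime.coprime_iff_not_dvd hr]
    exact hz
  · intro x hx
    have h1 : x = 1 := Subtype.ext hx
    rw [h1]
    exact one_mem _

/-- **`n = 6`, `U₄(3)`** -/
theorem kill_six_U43 (H : QS p K V G L h) (hn : Module.finrank K V = 6)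
    (hS : H912.Bd.IsU 4 3 (L ⧸ Subgroup.center L)) : False := by
  obtain ⟨F, _, _, hF, ⟨e⟩⟩ := hS
  have hq := H.two_le_card
  have h3p : Fact (Nat.Prime 3) := ⟨Nat.prime_three⟩
  have hch := charP_three hF
  have hcS : Nat.card (L ⧸ Subgroup.center L) = 3265920 := by rw [Nat.card_congr e.toEquiv, u43_card hF]
  have hcA : Nat.card (MulAut (L ⧸ Subgroup.center L)) = 26127360 := by
    rw [Nat.card_congr (MulAut.congr e).toEquiv, u43_aut hF]
  have hco := H.coprime
  rw [hcS] at hco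
  let f : L →* Cfsg.PSU 4 F 3 := e.toMonoidHom.comp (QuotientGroup.mk' (Subgroup.center L))
  have hf : Function.Surjective f := e.surjective.comp (QuotientGroup.mk'_surjective _)
  have hker : f.ker = Subgroup.center L := by
    ext x
    rw [MonoidHom.mem_ker]
    change e _ = 1 ↔ _
    rw [map_eq_one_iff _ e.injective, QuotientGroup.mk'_apply, QuotientGroup.eq_one_iff]
  have hfinK := H.finiteK
  -- `3 ∣ |Z(L)|`
  have hz : 3 ∣ Nat.card (Subgroup.center L) := by
    by_contra hz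
    have h1 := exists_PR H hn hf hker Nat.prime_three hz
    have h3K : ((3 : ℕ) : K) ≠ 0 := by
      intro h3
      have h4 : addOrderOf (1 : K) ∣ 3 := addOrderOf_dvd_of_nsmul_eq_zero (by rw [nsmul_one]; exact h3)
      rcases (Nat.dvd_prime Nat.prime_three).1 h4 with h5 | h5
      · rw [AddMonoid.addOrderOf_eq_one_iff] at h5
        exact one_ne_zero h5
      · have h6 : 3 ∣ Nat.card K := by
          rw [← h5]; exact addOrderOf_dvd_natCard _
        have h7 : 3 ∣ Nat.gcd (Nat.card K) 3265920 := Nat.dvd_gcd h6 (by norm_num)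
        rw [hco] at h7
        omega
    have h2 := H175.BdSU.bd_psu (F := K) (r := 3) Nat.prime_three hF (by norm_num) h3K (MulEquiv.refl (Cfsg.PSU 4 F 3))
      6 h1
    norm_num at h2
  have hz3 : 3 ∣ Nat.card K - 1 := hz.trans (card_center_dvd H)
  have hc1 := H.cand (one_dvd h)
  rw [hcS, hcA, hn] at hc1
  have hK := u43_list hq hco hz3 hc1
  have hV : Nat.card V = 19 ^ 6 := by rw [H.card_V, hn, hK]
  have hp : p = 19 := by
    obtain ⟨k, hk, hk0⟩ := H.exists_card
    rw [hK] at hk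
    have h1 : p ∣ 19 := by rw [hk]; exact dvd_pow_self p hk0.ne'
    exact (Nat.prime_dvd_prime_iff_eq Fact.out (by norm_num)).1 h1
  -- the element of order five
  obtain ⟨y, g, hy1, hy5, hgy⟩ := u43_five hF
  obtain ⟨Y, rfl⟩ := hf y
  obtain ⟨A, rfl⟩ := hf g
  obtain ⟨c, hcd⟩ : ∃ c, c = (Y ^ 2)⁻¹ * (A * Y * A⁻¹) := ⟨_, rfl⟩
  have hcc : c ∈ Subgroup.center L := by
    rw [← hker, MonoidHom.mem_ker, hcd, map_mul, map_mul, map_mul, map_inv, map_inv, map_pow, hgy,
      mul_inv_cancel_right, inv_mul_cancel]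
  have hAY : A * Y * A⁻¹ = Y ^ 2 * c := by rw [hcd]; group
  have hcY : Y * c = c * Y := Subgroup.mem_center_iff.1 hcc Y
  have hcA' : A * c * A⁻¹ = c := by
    rw [Subgroup.mem_center_iff.1 hcc A]; group
  have hwA : A * (Y * c) * A⁻¹ = (Y * c) ^ 2 := by
    have h1 : A * (Y * c) * A⁻¹ = (A * Y * A⁻¹) * (A * c * A⁻¹) := by group
    have h2 : (Y * c) ^ 2 = Y ^ 2 * c * c := by
      rw [pow_two, pow_two]
      calc Y * c * (Y * c) = Y * (c * Y) * c := by group
        _ = Y * (Y * c) * c := by rw [hcY]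
        _ = _ := by group
    rw [h1, hAY, hcA', h2]
  have hfw : f (Y * c) = f Y := by
    rw [map_mul]
    have : f c = 1 := by rw [← MonoidHom.mem_ker, hker]; exact hcc
    rw [this, mul_one]
  have hw5 : (Y * c) ^ 5 = 1 := by
    have h1 : (Y * c) ^ 5 ∈ Subgroup.center L := by
      rw [← hker, MonoidHom.mem_ker, map_pow, hfw, hy5]
    have h2 : A * (Y * c) ^ 5 * A⁻¹ = (Y * c) ^ 5 := by
      rw [Subgroup.mem_center_iff.1 h1 A]; group
    have h3 : A * (Y * c) ^ 5 * A⁻¹ = (Y * c) ^ 10 := by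
      rw [← conj_pow, hwA, ← pow_mul]
    have h4 : (Y * c) ^ 5 * (Y * c) ^ 5 = (Y * c) ^ 5 * 1 := by
      rw [← pow_add, mul_one, ← h2, h3]
    exact mul_left_cancel h4
  have hw1 : Y * c ≠ 1 := by
    intro h1
    rw [h1, map_one] at hfw
    exact hy1 hfw.symm
  have how : orderOf (Y * c) = 5 := by
    have : Fact (Nat.Prime 5) := ⟨by norm_num⟩
    exact orderOf_eq_prime hw5 hw1
  have hgw : A * (Y * c) = (Y * c) ^ 2 * A := by rw [← hwA]; group
  obtain ⟨v, hv, hwv⟩ := five_fix (w := ((Y * c : L) : V ≃ₗ[ZMod p] V)) (g := (A : V ≃ₗ[ZMod p] V)) hp hV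
    (congrArg Subtype.val hw5) (congrArg Subtype.val hgw)
  have h5 : 5 ∣ h := by
    refine dvd_h H.half (g := ⟨(Y * c : L), H.le (Y * c).2⟩) ?_ hv hwv
    rw [← how, ← Subgroup.orderOf_coe, ← Subgroup.orderOf_coe (Y * c)]
  have hc5 := H.cand h5
  rw [hcS, hcA, hn, hK] at hc5
  exact u43_five' hc5

end Cfsg.Agent.H933.HT
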