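import Cfsg.Agent.H337.HT.Cand

/-!
# S3540, quasisimple rows: small tools

* `exists_scalar`: central elements of `L` are scalars; `card_center_dvd`: `|Z(L)| ∣ |K| - 1`;
* `card_pow`: `K`-subspaces;
* `three_space`: `x³ = 1`, `g x g⁻¹ = x z`, `z` commutes with `x` and `g`, `z³ = 1 ≠ z`, `dim_K V = 6`, `3 ∤ |K| - 1`:
  `|C_V(x)| = |K|²` and `C_V(z) = 0`;
* `exists_of_not_dvd` (`covL`): every vector is fixed by an element of order `r` of `L`;
* `double_count`.
-/

set_option autoImplicit false
set_option linter.unusedSectionVars false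

universe u w

namespace Cfsg.Agent.H933.HT

open Cfsg.Agent.H828.HT Cfsg.Agent.H337.HT

variable {p : ℕ} [Fact p.Prime] {K : Type w} [Field K] {V : Type u} [AddCommGroup V] [Module (ZMod p) V] [Finite V]
    [Module K V] {G L : Subgroup (V ≃ₗ[ZMod p] V)} {h : ℕ}

/-- central elements of `L` are scalars -/
theorem exists_scalar (H : QS p K V G L h) {z : L} (hz : z ∈ Subgroup.center L) :
    ∃ c : K, ∀ v, (z : V ≃ₗ[ZMod p] V) v = c • v := by
  refine H.endo ((z : V ≃ₗ[ZMod p] V) : V →ₗ[ZMod p] V) fun l hl v => ?_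
  have h1 : (⟨l, hl⟩ : L) * z = z * ⟨l, hl⟩ := Subgroup.mem_center_iff.1 hz _
  have h2 := congrArg (fun a : L => (a : V ≃ₗ[ZMod p] V) v) h1
  exact h2.symm

theorem card_center_dvd (H : QS p K V G L h) : Nat.card (Subgroup.center L) ∣ Nat.card K - 1 := by
  have hK := H.finiteK
  have h2 : Nat.card (Subgroup.center L) = Nat.card ((Subgroup.center L).map L.subtype) :=
    Nat.card_congr ((Subgroup.center L).equivMapOfInjective _ L.subtype_injective).toEquiv
  have h3 : (Subgroup.center L).map L.subtype ≤ (QS.sc (p := p) (K := K) (V := V)).range := by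
    rintro _ ⟨g, hg, rfl⟩
    obtain ⟨c, hc⟩ := exists_scalar H hg
    have hc0 : c ≠ 0 := by
      rintro rfl
      obtain ⟨v, hv⟩ := H.exists_ne
      apply hv
      have h4 := hc v
      rw [zero_smul] at h4
      exact (g : V ≃ₗ[ZMod p] V).map_eq_zero_iff.1 h4
    exact ⟨Units.mk0 c hc0, LinearEquiv.ext fun v => by rw [QS.sc_apply]; exact (hc v).symm⟩
  have h4 : Nat.card (QS.sc (p := p) (K := K) (V := V)).range ∣ Nat.card Kˣ := Subgroup.card_range_dvd _
  rw [h2, ← Nat.card_units]
  exact (Subgroup.card_dvd_of_le h3).trans h4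

/-- the cardinality of a `K`-subspace -/
theorem card_pow (X : Set V) (h0 : (0 : V) ∈ X) (ha : ∀ v ∈ X, ∀ w ∈ X, v + w ∈ X)
    (hs : ∀ (c : K), ∀ v ∈ X, c • v ∈ X) : ∃ d, Nat.card X = Nat.card K ^ d := by
  let W : Submodule K V :=
    { carrier := X
      zero_mem' := h0
      add_mem' := fun {a b} h1 h2 => ha a h1 b h2
      smul_mem' := fun c x hx => hs c x hx }
  have : Module.Finite K V := Module.Finite.of_finite
  exact ⟨Module.finrank K W, Module.natCard_eq_pow_finrank (K := K) (V := W)⟩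

/-- a fixed-point-free permutation of order `r` -/
theorem dvd_of_free {X : Type*} [Finite X] {r : ℕ} (hr : r.Prime) (f : X → X) (hf : f^[r] = id)
    (hfix : ∀ x, f x ≠ x) : r ∣ Nat.card X := by
  classical
  have := Fintype.ofFinite X
  have := Fact.mk hr
  let e : Equiv.Perm X :=
    { toFun := f
      invFun := f^[r - 1]
      left_inv := fun x => by
        rw [← Function.iterate_succ_apply, Nat.succ_eq_add_one, Nat.sub_add_cancel hr.one_lt.le, hf]; rfl
      right_inv := fun x => by
        rw [← Function.iterate_succ_apply' f, Nat.succ_eq_add_one, Nat.sub_add_cancel hr.one_lt.le, hf]; rfl }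
  have he : e ^ r ^ 1 = 1 := by
    ext x
    rw [pow_one, Equiv.Perm.coe_pow]
    change f^[r] x = x
    rw [hf]; rfl
  have h1 := Equiv.Perm.card_fixedPoints_modEq (f := f) (p := r) (n := 1) (by rw [pow_one]; exact hf)
  have h2 : Fintype.card (Function.fixedPoints f) = 0 := by
    rw [Fintype.card_eq_zero_iff]
    exact ⟨fun x => hfix x.1 x.2⟩
  rw [h2] at h1
  rw [Nat.card_eq_fintype_card]
  exact (Nat.modEq_zero_iff_dvd.1 h1)

end Cfsg.Agent.H933.HT
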